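import Cfsg.Agent.Lib.Co1Recog.Amalgam.QImage
import Cfsg.Agent.Lib.CoM24.Stab

/-!
Every automorphism induced in the centraliser of the model is induced in the centraliser.
-/

set_option autoImplicit false
set_option maxRecDepth 20000
set_option synthInstance.maxSize 4000
set_option synthInstance.maxHeartbeats 400000

noncomputable section

open scoped Matrix

namespace Cfsg.Agent.Co1Amalgam

open Cfsg Cfsg.Agent.Leech Cfsg.Agent.CoM24 Cfsg.Agent.CoT
open Subgroup LargeExtra

local notation "F" => ZMod 2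

/-- An additive isometry with an inverse as a group element. -/
theorem exists_app_of (f f' : V → V) (hadd : ∀ u v, f (u + v) = f u + f v)
    (hq : ∀ v, q (f v) = q v) (hl : ∀ v, f' (f v) = v) (hr : ∀ v, f (f' v) = v) :
    ∃ g : O8, app g = f := by
  have hadd' : ∀ u v, f' (u + v) = f' u + f' v := fun u v => by
    rw [← hl (f' u + f' v), hadd, hr, hr]
  let L : (I8 → F) →ₗ[F] (I8 → F) :=
    AddMonoidHom.toZModLinearMap 2 (AddMonoidHom.mk' (fun w => σ (f (σ.symm w))) fun u v => by
      rw [map_add, hadd, map_add])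
  let L' : (I8 → F) →ₗ[F] (I8 → F) :=
    AddMonoidHom.toZModLinearMap 2 (AddMonoidHom.mk' (fun w => σ (f' (σ.symm w))) fun u v => by
      rw [map_add, hadd', map_add])
  let M : Matrix I8 I8 F := LinearMap.toMatrix' L
  let M' : Matrix I8 I8 F := LinearMap.toMatrix' L'
  have hM : ∀ w, M *ᵥ w = σ (f (σ.symm w)) := fun w => by
    rw [LinearMap.toMatrix'_mulVec]; rfl
  have hM' : ∀ w, M' *ᵥ w = σ (f' (σ.symm w)) := fun w => by
    rw [LinearMap.toMatrix'_mulVec]; rfl
  have h1 : M * M' = 1 := Matrix.ext_of_mulVec_single fun i => by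
    rw [← Matrix.mulVec_mulVec, hM', hM, AddEquiv.symm_apply_apply, hr, AddEquiv.apply_symm_apply,
      Matrix.one_mulVec]
  have h2 : M' * M = 1 := Matrix.ext_of_mulVec_single fun i => by
    rw [← Matrix.mulVec_mulVec, hM, hM', AddEquiv.symm_apply_apply, hl, AddEquiv.apply_symm_apply,
      Matrix.one_mulVec]
  refine ⟨⟨⟨M, M', h1, h2⟩, fun u _ => ?_⟩, funext fun v => ?_⟩
  · show q8 (M *ᵥ u) = q8 u
    rw [hM, q_σ, hq, ← q_σ, AddEquiv.apply_symm_apply]
  · show σ.symm (M *ᵥ σ v) = f v
    rw [hM, AddEquiv.symm_apply_apply, AddEquiv.symm_apply_apply]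

/-- Conjugation on the extraspecial subgroup of the model. -/
abbrev conjK : E8Cent.Cc →* MulAut E8Cent.rho.ker := MulAut.conjNormal

/-- The monomial part of the centraliser of the model. -/
abbrev Bc : Subgroup E8Cent.Cc := crossStab.subgroupOf E8Cent.Cc

/-- It as a subgroup of the monomial group. -/
def incB : Bc →* crossStab := (E8Cent.Cc.subtype.comp Bc.subtype).codRestrict crossStab fun m => m.2

theorem conjK_t0k (m : E8Cent.Cc) : conjK m E8Cent.t0k = E8Cent.t0k := by
  refine E8Cent.ker_ext ?_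
  show (m : Co0) * E8Cent.t0 * (m : Co0)⁻¹ = E8Cent.t0
  rw [E8Cent.mem_Cc.1 m.2, mul_inv_cancel_right]

theorem conjK_negC : conjK E8Cent.negC = 1 :=
  MulEquiv.ext fun x => Subtype.ext (by
    show E8Cent.negC * (x : E8Cent.Cc) * E8Cent.negC⁻¹ = x
    rw [← E8Cent.negC_comm, mul_inv_cancel_right])

theorem conjK_incK (m : Bc) (x : E8Cent.rho.ker) :
    incK (conjK (m : E8Cent.Cc) x) = incB m * incK x * (incB m)⁻¹ :=
  Subtype.ext rfl

variable {G : Type*} [Group G] [Finite G] {z : G} {Q : Subgroup G} {π : G → V}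
  {ρ : G → V → V} {s g : Fin 4 → G} {f : crossStab →* G}

theorem fB_comm (hf : NSide z s Q f) (m : Bc) : f (incB m) * z = z * f (incB m) := by
  rw [← hf.t0, ← map_mul, ← map_mul]
  congr 1
  exact Subtype.ext (E8Cent.mem_Cc.1 (m : E8Cent.Cc).2)

/-- The monomial part has index 135. -/
theorem index_Bc (X : Four z Q π ρ s g) (hf : NSide z s Q f) : Bc.index = 135 := by
  classical
  obtain ⟨r, hr⟩ := X.base.exists_rsys
  obtain ⟨a, ha⟩ := X.exists_tsys hr
  have hlo : 322560 * 4096 ≤ Nat.card Bc := by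
    let φ := f.comp incB
    have hle : HH z s ≤ φ.range := by
      intro c hc
      have hc' : c ∈ f.range := by rw [hf.range]; exact hc.2
      obtain ⟨m, rfl⟩ := hc'
      exact ⟨⟨⟨(m : Co0), hf.mem_Cc (mem_centralizer_one.1 hc.1)⟩, m.2⟩, congrArg f (Subtype.ext rfl)⟩
    have h1 : 322560 * 2048 ≤ Nat.card φ.range := (X.card_HH hr ha).trans (card_le_of_le hle)
    have h2 : 2 ≤ Nat.card φ.ker := by
      have hneg : (E8Cent.negC : E8Cent.Cc) ∈ Bc := mono_mem _
      have : (⟨E8Cent.negC, hneg⟩ : Bc) ∈ φ.ker := (hf.ker _).2 (Or.inr rfl)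
      refine le_of_eq_of_le (Nat.card_fin 2).symm
        (Nat.card_le_card_of_injective ![(1 : φ.ker), ⟨⟨E8Cent.negC, hneg⟩, this⟩] ?_)
      have hne : (1 : φ.ker) ≠ ⟨⟨E8Cent.negC, hneg⟩, this⟩ := fun e => negCo0_ne_one
        (congrArg (fun u : φ.ker => (((u : Bc) : E8Cent.Cc) : Co0)) e).symm
      intro i j e
      fin_cases i <;> fin_cases j <;> first
        | rfl
        | exact absurd e hne
        | exact absurd e.symm hne
    have h3 := φ.ker.card_mul_index
    rw [index_ker] at h3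
    calc 322560 * 4096 = 2 * (322560 * 2048) := by norm_num
      _ ≤ Nat.card φ.ker * Nat.card φ.range := Nat.mul_le_mul h2 h1
      _ = Nat.card Bc := h3
  have he : Nat.card Bc = 322560 * 4096 := le_antisymm E8Cent.card_stab_le hlo
  have h := Bc.card_mul_index
  rw [he, E8Cent.group_facts.1] at h
  omega

/-- The centraliser induces all the automorphisms of the model. -/
theorem exists_lift (X : Four z Q π ρ s g) (hf : NSide z s Q f) (m : E8Cent.Cc) :
    ∃ c, c * z = z * c ∧ ∀ x : E8Cent.rho.ker,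
      f (incK (conjK m x)) = c * f (incK x) * c⁻¹ := by
  classical
  have S := X.base.su
  set h := f.comp incK with hh
  have hQ : h.range = Q := Q_image X hf
  have hmem : ∀ x, h x ∈ Q := fun x => hQ ▸ ⟨x, rfl⟩
  have hz : h E8Cent.t0k = z := hf.t0k_z
  have hinj := hf.incK_inj
  choose lift hlift using fun v => show ∃ x, π (h x) = v by
    obtain ⟨y, hy, hv⟩ := S.pi_surj v
    rw [← hQ] at hy
    obtain ⟨x, rfl⟩ := hy
    exact ⟨x, hv⟩
  have hsame : ∀ {x y}, π (h x) = π (h y) → x = y ∨ x = y * E8Cent.t0k := by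
    intro x y e
    rcases S.eq_of_pi (hmem x) (hmem y) e with e' | e'
    · exact Or.inl (hinj e')
    · exact Or.inr (hinj (by rw [e', map_mul, hz]))
  have hwd : ∀ (m : E8Cent.Cc) x, π (h (conjK m (lift (π (h x))))) = π (h (conjK m x)) := by
    intro m x
    rcases hsame (hlift (π (h x))) with e | e
    · rw [e]
    · rw [e, map_mul, conjK_t0k, map_mul, hz, S.pi_mul _ (hmem _) _ S.loc.mem, S.pi_z, add_zero]
  let A₀ : E8Cent.Cc → V → V := fun m v => π (h (conjK m (lift v)))
  have hA : ∀ m x, A₀ m (π (h x)) = π (h (conjK m x)) := hwd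
  have hA1 : ∀ v, A₀ 1 v = v := fun v => by
    show π (h (conjK 1 (lift v))) = v
    rw [map_one, MulAut.one_apply, hlift]
  have hAmul : ∀ m n v, A₀ (m * n) v = A₀ m (A₀ n v) := fun m n v => by
    show _ = A₀ m (π (h (conjK n (lift v))))
    rw [hA, ← MulAut.mul_apply, ← map_mul]
  have hAadd : ∀ m u v, A₀ m (u + v) = A₀ m u + A₀ m v := fun m u v => by
    have e : u + v = π (h (lift u * lift v)) := by
      rw [map_mul, S.pi_mul _ (hmem _) _ (hmem _), hlift, hlift]
    rw [e, hA, map_mul, map_mul, S.pi_mul _ (hmem _) _ (hmem _)]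
  have hAq : ∀ m v, q (A₀ m v) = q v := fun m v => by
    have e1 := S.sq _ (hmem (lift v))
    have e2 := S.sq _ (hmem (conjK m (lift v)))
    rw [← map_mul, hlift] at e1
    rw [← map_mul, ← map_mul] at e2
    rcases E8Cent.ker_sq (lift v) with e | e <;> rw [e] at e1 e2
    · rw [map_one] at e1
      rw [map_one, map_one] at e2
      rcases F_cases (q v) with p | p <;> rcases F_cases (q (A₀ m v)) with p' | p' <;> rw [p, p'] <;>
        rw [p] at e1 <;> rw [show π (h (conjK m (lift v))) = A₀ m v from rfl, p'] at e2 <;>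
        simp only [zb_zero, zb_one] at e1 e2
      · exact absurd e2.symm S.loc.ne_one
      · exact absurd e1.symm S.loc.ne_one
    · rw [hz] at e1
      rw [conjK_t0k, hz] at e2
      rcases F_cases (q v) with p | p <;> rcases F_cases (q (A₀ m v)) with p' | p' <;> rw [p, p'] <;>
        rw [p] at e1 <;> rw [show π (h (conjK m (lift v))) = A₀ m v from rfl, p'] at e2 <;>
        simp only [zb_zero, zb_one] at e1 e2
      · exact absurd e1 S.loc.ne_one
      · exact absurd e2 S.loc.ne_one
  choose A₁ hA₁ using fun m => exists_app_of (A₀ m) (A₀ m⁻¹) (hAadd m) (hAq m)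
    (fun v => by rw [← hAmul, inv_mul_cancel, hA1]) (fun v => by rw [← hAmul, mul_inv_cancel, hA1])
  let A : E8Cent.Cc →* O8 := MonoidHom.mk' A₁ fun m n => app_inj (funext fun v => by
    rw [app_mul, hA₁, hA₁, hA₁, hAmul])
  have hB : Bc ≤ Om.comap A := by
    intro b hb
    have hc := fB_comm hf ⟨b, hb⟩
    obtain ⟨g, hg, hga⟩ := S.om _ hc
    show A₁ b ∈ Om
    rw [show A₁ b = g from app_inj (funext fun v => by
      rw [hA₁, hga]
      show π (h (conjK b (lift v))) = _
      rw [show h (conjK b (lift v)) = f (incB ⟨b, hb⟩) * h (lift v) * (f (incB ⟨b, hb⟩))⁻¹ by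
        rw [hh, MonoidHom.comp_apply, MonoidHom.comp_apply, ← map_inv, ← map_mul, ← map_mul,
          ← conjK_incK], S.conj _ hc _ (hmem _), hlift])]
    exact hg
  have hall : ∀ m, A m ∈ Om := by
    have hOm : Om.index = 2 := by
      have h0 := Om.card_mul_index
      rw [card_Om, card_O8] at h0
      omega
    haveI : Om.Normal := normal_of_index_eq_two hOm
    have h2 : (Om.comap A).index ∣ 2 := by
      rw [index_comap]
      exact Dvd.dvd.trans (relIndex_dvd_index_of_normal Om A.range) (dvd_of_eq hOm)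
    have h3 : (Om.comap A).index ∣ 135 := index_Bc X hf ▸ index_dvd_of_le hB
    have h1 : Om.comap A = ⊤ := index_eq_one.1 (Nat.dvd_one.1 (show _ ∣ Nat.gcd 2 135 from Nat.dvd_gcd h2 h3))
    intro m
    have : m ∈ Om.comap A := h1 ▸ mem_top m
    exact this
  obtain ⟨c, hc, hρ⟩ := S.lift (A₀ m) ⟨A₁ m, hall m, hA₁ m⟩
  have hπ : ∀ x, π (c * h x * c⁻¹) = π (h (conjK m x)) := fun x => by
    rw [S.conj c hc _ (hmem x), hρ, hA]
  have hl : ∀ x, ∃ l : F, c * h x * c⁻¹ = h (conjK m x) * zb z l := fun x => by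
    rcases S.eq_of_pi (S.conj_mem hc (hmem x)) (hmem _) (hπ x) with e | e
    · exact ⟨0, by rw [e, zb_zero, mul_one]⟩
    · exact ⟨1, by rw [e, zb_one]⟩
  choose l hl using hl
  have hlu : ∀ x l', c * h x * c⁻¹ = h (conjK m x) * zb z l' → l x = l' := by
    intro x l' e
    have e' := mul_left_cancel ((hl x).symm.trans e)
    rcases F_cases (l x) with p | p <;> rcases F_cases l' with p' | p' <;> rw [p, p'] at e' ⊢ <;>
      simp only [zb_zero, zb_one] at e'
    · exact absurd e'.symm S.loc.ne_one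
    · exact absurd e' S.loc.ne_one
  have hlmul : ∀ x y, l (x * y) = l x + l y := fun x y => hlu _ _ (by
    rw [map_mul, map_mul, map_mul]
    calc c * (h x * h y) * c⁻¹ = (c * h x * c⁻¹) * (c * h y * c⁻¹) := by group
      _ = h (conjK m x) * (zb z (l x) * h (conjK m y)) * zb z (l y) := by rw [hl, hl]; group
      _ = h (conjK m x) * (h (conjK m y) * zb z (l x)) * zb z (l y) := by
        rw [zb_comm (S.Qz (hmem _))]
      _ = _ := by rw [zb_add S.loc.sq]; group)
  have hlt : l E8Cent.t0k = 0 := hlu _ _ (by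
    rw [hz, zb_zero, mul_one, conjK_t0k, hz, mul_inv_eq_iff_eq_mul, hc])
  have hlwd : ∀ x, l (lift (π (h x))) = l x := fun x => by
    rcases hsame (hlift (π (h x))) with e | e
    · rw [e]
    · rw [e, hlmul, hlt, add_zero]
  let L : V → F := fun v => l (lift v)
  have hL : ∀ x, L (π (h x)) = l x := hlwd
  have hLadd : ∀ u v, L (u + v) = L u + L v := fun u v => by
    have e : u + v = π (h (lift u * lift v)) := by
      rw [map_mul, S.pi_mul _ (hmem _) _ (hmem _), hlift, hlift]
    rw [e, hL, hlmul]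
  obtain ⟨y, hy, hπy⟩ := S.pi_surj (repr L)
  refine ⟨c * y, S.comm_mul hc (S.Qz hy), fun x => ?_⟩
  show h (conjK m x) = c * y * h x * (c * y)⁻¹
  rw [show c * y * h x * (c * y)⁻¹ = c * (y * h x * y⁻¹) * c⁻¹ by group, S.conj_Q hy (hmem x), hπy,
    bil_comm, ← repr_spec L hLadd, hL]
  calc h (conjK m x) = c * h x * c⁻¹ * zb z (l x) := by
        rw [hl, mul_assoc, ← zb_add S.loc.sq, F_add_self, zb_zero, mul_one]
    _ = c * h x * (c⁻¹ * zb z (l x)) := mul_assoc _ _ _
    _ = c * h x * (zb z (l x) * c⁻¹) := by rw [zb_comm (S.comm_inv hc)]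
    _ = c * (h x * zb z (l x)) * c⁻¹ := by group

end Cfsg.Agent.Co1Amalgam
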