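import Cfsg.Agent.Lib.CoM24.Stab
import Cfsg.Agent.Lib.CoM24.Images

/-!
The stabiliser of the abelian subgroup in the centraliser of the central involution is perfect.
-/

set_option autoImplicit false
set_option maxRecDepth 20000
set_option linter.unusedSectionVars false
set_option synthInstance.maxSize 4000
set_option synthInstance.maxHeartbeats 400000

namespace Cfsg.Agent.Co1Amalgam

open Cfsg.Agent.CoM24 Cfsg.Agent.CoT Subgroup LargeExtra

local notation "F" => ZMod 2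

/-- Every basis vector is moved to itself plus a basis vector. -/
theorem gv_gen : ∀ i : Fin 4,
    (∃ t j, E i = E j + gv t (E j)) ∧ (∃ t j, Fv i = Fv j + gv t (Fv j)) := by
  decide +kernel

/-- Every basic class of the radical is a difference. -/
theorem act_gen : ∀ k : Fin 6, ∃ t : Fin 12, ∃ o : Fin 64,
    (o : ℕ) ^^^ act t o = 2 ^ (k : ℕ) := by
  decide +kernel

theorem bits_sum : ∀ o : Fin 64, (o : ℕ) =
    (cond ((o : ℕ).testBit 0) 1 0) ^^^ (cond ((o : ℕ).testBit 1) 2 0) ^^^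
      (cond ((o : ℕ).testBit 2) 4 0) ^^^ (cond ((o : ℕ).testBit 3) 8 0) ^^^
      (cond ((o : ℕ).testBit 4) 16 0) ^^^ (cond ((o : ℕ).testBit 5) 32 0) := by
  decide +kernel

/-- A transvection is the commutator of two others. -/
theorem transvection_comm : ∀ i k : Fin 4, i ≠ k → ∃ j, i ≠ j ∧ j ≠ k ∧
    Matrix.transvection i k (1 : F) * (Matrix.transvection j k 1 * Matrix.transvection i j 1) =
      Matrix.transvection i j 1 * Matrix.transvection j k 1 := by
  decide +kernel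

variable {G : Type*} [Group G] [Finite G] {z : G} {Q : Subgroup G} {π : G → V} {ρ : G → V → V}
  {s g : Fin 4 → G}

/-- A subgroup containing the commutators contains everything. -/
theorem HH_le (X : Four z Q π ρ s g) (D : Subgroup G)
    (hD : ∀ a ∈ HH z s, ∀ b ∈ HH z s, a * b * a⁻¹ * b⁻¹ ∈ D) : HH z s ≤ D := by
  classical
  have B := X.base
  have S := X.base.su
  obtain ⟨r, hr⟩ := X.base.exists_rsys
  have hQH : ∀ x ∈ Q, x ∈ HH z s := fun x hx => B.mem_HH (S.Qz hx) (B.norm_AA (S.Qz hx) fun i m => by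
    rw [S.rho_Q hx, E_bil])
  have hAH : ∀ x ∈ AA z s, x ∈ HH z s := fun x hx => B.mem_HH (B.Az hx) (le_normalizer hx)
  -- the central involution
  have hzD : z ∈ D := by
    obtain ⟨v, hv⟩ := exists_bil_one (E_sing 0).2
    obtain ⟨x, hx, hpx⟩ := S.pi_surj v
    obtain ⟨y, hy, hpy⟩ := S.pi_surj (E 0)
    have h := hD x (hQH x hx) y (hQH y hy)
    rw [S.conj_Q hx hy, hpx, hpy, bil_comm, hv, zb_one, mul_assoc, ← S.Qz (Q.inv_mem hy), ← mul_assoc,
      mul_inv_cancel, one_mul] at h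
    exact h
  -- the extraspecial subgroup
  have hQD : Q ≤ D := by
    let T : Set V := {v | ∃ x ∈ Q, x ∈ D ∧ π x = v}
    have hTadd : ∀ u v, u ∈ T → v ∈ T → u + v ∈ T := by
      rintro _ _ ⟨x, hx, hxD, rfl⟩ ⟨y, hy, hyD, rfl⟩
      exact ⟨x * y, mul_mem hx hy, mul_mem hxD hyD, S.pi_mul x hx y hy⟩
    have hT0 : (0 : V) ∈ T := ⟨1, one_mem _, one_mem _, S.pi_one⟩
    have hmove : ∀ (t : Fin 12) (v : V), v + gv t v ∈ T := by
      intro t v
      obtain ⟨c, hc, hρ, hn⟩ := B.exists_gen t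
      obtain ⟨x, hx, rfl⟩ := S.pi_surj v
      refine ⟨x * (c * x⁻¹ * c⁻¹), mul_mem hx (S.conj_mem hc (inv_mem hx)), ?_, ?_⟩
      · have h := hD x (hQH x hx) c (B.mem_HH hc hn)
        convert h using 1
        group
      · rw [S.pi_mul x hx _ (S.conj_mem hc (inv_mem hx)), S.conj c hc _ (inv_mem hx), S.pi_inv hx, hρ]
    have hsm : ∀ (c : F) {v : V}, v ∈ T → sm c v ∈ T := by
      intro c v hv
      rcases F_cases c with rfl | rfl
      · rw [sm_zero]; exact hT0
      · rwa [sm_one]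
    have hE : ∀ i, E i ∈ T := fun i => by
      obtain ⟨t, j, e⟩ := (gv_gen i).1
      rw [e]; exact hmove t _
    have hF : ∀ i, Fv i ∈ T := fun i => by
      obtain ⟨t, j, e⟩ := (gv_gen i).2
      rw [e]; exact hmove t _
    intro x hx
    obtain ⟨y, hy, hyD, hyx⟩ : π x ∈ T := by
      rw [decomp8 (π x)]
      exact hTadd _ _ (hTadd _ _ (hTadd _ _ (hTadd _ _ (hTadd _ _ (hTadd _ _ (hTadd _ _
        (hsm _ (hE 0)) (hsm _ (hF 0))) (hsm _ (hE 1))) (hsm _ (hF 1))) (hsm _ (hE 2))) (hsm _ (hF 2)))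
        (hsm _ (hE 3))) (hsm _ (hF 3))
    rcases S.eq_of_pi hx hy hyx.symm with e | e
    · rwa [e]
    · rw [e]; exact mul_mem hyD hzD
  -- the abelian subgroup
  have hAD : AA z s ≤ D := by
    have hone : ∀ k : Fin 6, ∃ u ∈ D, Rad z ρ s u (2 ^ (k : ℕ)) := by
      intro k
      obtain ⟨t, o, ho⟩ := act_gen k
      obtain ⟨c, hc, hρ, hn⟩ := B.exists_gen t
      have h0 := B.rad_eg hr (y := 32 * (o : ℕ)) (by omega)
      rw [show om (32 * (o : ℕ)) = o by unfold om; omega] at h0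
      set u := eg z s r (32 * (o : ℕ))
      have h1 := B.rad_conj o.2 hc hρ hn (B.rad_inv h0)
      refine ⟨u * (c * u⁻¹ * c⁻¹), ?_, ho ▸ B.rad_mul h0 h1⟩
      have h := hD u (hAH u h0.1) c (B.mem_HH hc hn)
      convert h using 1
      group
    have hbit : ∀ (k : Fin 6) (b : Bool), ∃ u ∈ D, Rad z ρ s u (cond b (2 ^ (k : ℕ)) 0) := fun k b => by
      cases b
      · exact ⟨1, one_mem _, B.rad_one⟩
      · exact hone k
    intro a ha
    obtain ⟨o, ho, hra⟩ := B.exists_rad ha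
    obtain ⟨u0, d0, r0⟩ := hbit 0 (o.testBit 0)
    obtain ⟨u1, d1, r1⟩ := hbit 1 (o.testBit 1)
    obtain ⟨u2, d2, r2⟩ := hbit 2 (o.testBit 2)
    obtain ⟨u3, d3, r3⟩ := hbit 3 (o.testBit 3)
    obtain ⟨u4, d4, r4⟩ := hbit 4 (o.testBit 4)
    obtain ⟨u5, d5, r5⟩ := hbit 5 (o.testBit 5)
    have hu := B.rad_mul (B.rad_mul (B.rad_mul (B.rad_mul (B.rad_mul r0 r1) r2) r3) r4) r5
    have hsum : o = (cond (o.testBit 0) 1 0) ^^^ (cond (o.testBit 1) 2 0) ^^^
      (cond (o.testBit 2) 4 0) ^^^ (cond (o.testBit 3) 8 0) ^^^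
      (cond (o.testBit 4) 16 0) ^^^ (cond (o.testBit 5) 32 0) := bits_sum ⟨o, ho⟩
    have hra' : Rad z ρ s a ((cond (o.testBit 0) (2 ^ ((0 : Fin 6) : ℕ)) 0) ^^^
        (cond (o.testBit 1) (2 ^ ((1 : Fin 6) : ℕ)) 0) ^^^
        (cond (o.testBit 2) (2 ^ ((2 : Fin 6) : ℕ)) 0) ^^^
        (cond (o.testBit 3) (2 ^ ((3 : Fin 6) : ℕ)) 0) ^^^
        (cond (o.testBit 4) (2 ^ ((4 : Fin 6) : ℕ)) 0) ^^^
        (cond (o.testBit 5) (2 ^ ((5 : Fin 6) : ℕ)) 0)) := hsum ▸ hra
    obtain ⟨hdQ, -⟩ := B.rad_diff hra' hu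
    have := mul_mem (hQD hdQ) (mul_mem (mul_mem (mul_mem (mul_mem (mul_mem d0 d1) d2) d3) d4) d5)
    rwa [inv_mul_cancel_right] at this
  -- the kernel of the action on the singular subspace
  obtain ⟨a, ha⟩ := X.exists_tsys hr
  have hker : ∀ c : ↥(HH z s), B.mu c = 1 → (c : G) ∈ D := by
    intro c hc
    have hcz := mem_centralizer_one.1 c.2.1
    have hmat : CoM24.mat ρ (c : G) = 1 := congrArg Units.val hc
    have hfix : ∀ j, ρ (c : G) (E j) = E j := fun j => by
      rw [dualW (ρ (c : G) (E j)) (B.HH_W c.2 j)]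
      have hij : ∀ i, bil (Fv i) (ρ (c : G) (E j)) = if i = j then 1 else 0 := fun i => by
        have := congrFun (congrFun hmat i) j
        rwa [Matrix.one_apply] at this
      simp only [hij]
      fin_cases j <;> simp [sm_zero, sm_one]
    have hb : ∀ j, ∃ b : F, (c : G) * s j * (c : G)⁻¹ = s j * zb z b := by
      intro j
      have h1 := S.conj (c : G) hcz _ (X.fr j).sQ
      rw [B.se, hfix, ← B.se j] at h1
      rcases S.eq_of_pi (S.conj_mem hcz (X.fr j).sQ) (X.fr j).sQ h1 with e | e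
      · exact ⟨0, by rw [e, zb_zero, mul_one]⟩
      · exact ⟨1, by rw [e, zb_one]⟩
    choose b hb using hb
    obtain ⟨v, v0, v1, v2, v3⟩ := bits4 (b 0) (b 1) (b 2) (b 3)
    obtain ⟨hq, hπq⟩ := X.tv_spec hr ha (v : ℕ)
    set q := tv a (v : ℕ)
    have hqc : ∀ j, q * s j * q⁻¹ = s j * zb z (b j) := fun j => by
      rw [S.conj_Q hq (X.fr j).sQ, hπq, B.se]
      congr 2
      rw [v0, v1, v2, v3]
      fin_cases j <;> simp [bil_add_left, bil_sm_left, FE_bil]
    have hu : q⁻¹ * (c : G) ∈ AA z s := mem_AA.2 ⟨S.comm_mul (S.comm_inv (S.Qz hq)) hcz, fun j => by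
      have e := (hb j).trans (hqc j).symm
      calc q⁻¹ * (c : G) * s j = q⁻¹ * ((c : G) * s j * (c : G)⁻¹) * (c : G) := by group
        _ = q⁻¹ * (q * s j * q⁻¹) * (c : G) := by rw [e]
        _ = s j * (q⁻¹ * (c : G)) := by group⟩
    have := mul_mem (hQD hq) (hAD hu)
    rwa [mul_inv_cancel_left] at this
  -- the action on the singular subspace
  have hall : ∀ N : Matrix (Fin 4) (Fin 4) F, N.det ≠ 0 →
      ∃ c : ↥(HH z s), (c : G) ∈ D ∧ CoM24.mat ρ (c : G) = N := by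
    intro N hN
    refine Matrix.diagonal_transvection_induction_of_det_ne_zero
      (fun N => ∃ c : ↥(HH z s), (c : G) ∈ D ∧ CoM24.mat ρ (c : G) = N) N hN (fun M hM => ?_) (fun t => ?_)
      (fun A₁ A₂ _ _ ⟨a₁, d₁, h₁⟩ ⟨a₂, d₂, h₂⟩ => ⟨a₁ * a₂, mul_mem d₁ d₂, by
        rw [Subgroup.coe_mul, B.mat_mul a₁.2 a₂.2, h₁, h₂]⟩)
    · refine ⟨1, one_mem _, ?_⟩
      rw [Subgroup.coe_one, B.mat_fix fun i => S.rho_one _]
      have : ∀ i, M i = 1 := fun i => (F_cases _).resolve_left fun e => hM (by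
        rw [Matrix.det_diagonal]; exact Finset.prod_eq_zero (Finset.mem_univ i) e)
      rw [show M = fun _ => 1 from funext this, Matrix.diagonal_one]
    · rcases F_cases t.c with hc | hc
      · refine ⟨1, one_mem _, ?_⟩
        rw [Subgroup.coe_one, B.mat_fix fun i => S.rho_one _, Matrix.TransvectionStruct.toMatrix, hc,
          Matrix.transvection_zero]
      · rw [Matrix.TransvectionStruct.toMatrix, hc]
        obtain ⟨j, hij, hjk, e⟩ := transvection_comm t.i t.j t.hij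
        have pre : ∀ i k : Fin 4, i ≠ k →
            ∃ c : ↥(HH z s), CoM24.mat ρ (c : G) = Matrix.transvection i k 1 := by
          intro i k hik
          obtain ⟨c, hc'⟩ := B.mu_surj (Matrix.GeneralLinearGroup.mkOfDetNeZero
            (Matrix.transvection i k 1) (by rw [Matrix.det_transvection_of_ne i k hik]; exact one_ne_zero))
          exact ⟨c, congrArg Units.val hc'⟩
        obtain ⟨x, hx⟩ := pre t.i j hij
        obtain ⟨y, hy⟩ := pre j t.j hjk
        refine ⟨x * y * x⁻¹ * y⁻¹, hD x x.2 y y.2, ?_⟩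
        have h : CoM24.mat ρ ((x * y * x⁻¹ * y⁻¹ : ↥(HH z s)) : G) * CoM24.mat ρ ((y * x : ↥(HH z s)) : G) =
            CoM24.mat ρ ((x * y : ↥(HH z s)) : G) := by
          rw [← B.mat_mul (SetLike.coe_mem _) (SetLike.coe_mem _), ← Subgroup.coe_mul]
          congr 2
          group
        rw [show ((y * x : ↥(HH z s)) : G) = (y : G) * x from rfl,
          show ((x * y : ↥(HH z s)) : G) = (x : G) * y from rfl, B.mat_mul x.2 y.2, B.mat_mul y.2 x.2, hx, hy,
          ← e] at h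
        refine (IsUnit.mul_left_inj ((Matrix.isUnit_iff_isUnit_det _).2 ?_)).1 h
        rw [Matrix.det_mul, Matrix.det_transvection_of_ne _ _ hij, Matrix.det_transvection_of_ne _ _ hjk,
          one_mul]
        exact isUnit_one
  intro c hc
  obtain ⟨d, hd, hdm⟩ := hall (CoM24.mat ρ c)
    (((Matrix.isUnit_iff_isUnit_det _).1 (B.mu ⟨c, hc⟩).isUnit).ne_zero)
  have h1 : B.mu (⟨c, hc⟩ * d⁻¹) = 1 := by
    rw [map_mul, map_inv, mul_inv_eq_one]
    exact Units.ext hdm.symm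
  have := mul_mem (hker _ h1) hd
  rwa [Subgroup.coe_mul, Subgroup.coe_inv, inv_mul_cancel_right] at this

end Cfsg.Agent.Co1Amalgam
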