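import Cfsg.Agent.Lib.Co1Recog.Amalgam.CAut
import Cfsg.Agent.Lib.Co1Recog.Amalgam.Perfect
import Cfsg.Agent.Lib.Solvable.Gaschutz

/-!
The two sides of the amalgam of the first Conway group, forced by the centraliser of the involution.
-/

set_option autoImplicit false
set_option maxRecDepth 20000
set_option synthInstance.maxSize 4000
set_option synthInstance.maxHeartbeats 400000

noncomputable section

namespace Cfsg.Agent.Co1Amalgam

open Cfsg Cfsg.Agent.Leech Cfsg.Agent.CoM24 Cfsg.Agent.CoT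
open Subgroup LargeExtra

local notation "F" => ZMod 2

/-- The monomial group modulo the sign. -/
abbrev N1 : Subgroup Spor.Co1 := crossStab.map E8Cent.piH

variable {G : Type*} [Group G] [Finite G] {z : G} {Q : Subgroup G} {π : G → V}
  {ρ : G → V → V} {s g : Fin 4 → G} {f : crossStab →* G}

/-- The pairs with the same action on the extraspecial subgroup. -/
def pairs (z : G) (f : crossStab →* G) : Subgroup (E8Cent.C1 × G) where
  carrier := {p | ∃ m, E8Cent.phiC m = p.1 ∧ p.2 * z = z * p.2 ∧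
    ∀ x, f (incK (conjK m x)) = p.2 * f (incK x) * p.2⁻¹}
  one_mem' := ⟨1, map_one _, by simp, fun x => by simp⟩
  mul_mem' := by
    rintro ⟨a, c⟩ ⟨b, d⟩ ⟨m, hm, hc, hx⟩ ⟨n, hn, hd, hy⟩
    simp only at hm hc hx hn hd hy
    refine ⟨m * n, by rw [map_mul, hm, hn]; rfl, ((show Commute c z from hc).mul_left hd).eq, fun x => ?_⟩
    show f (incK (conjK (m * n) x)) = c * d * f (incK x) * (c * d)⁻¹
    rw [map_mul, MulAut.mul_apply, hx, hy]
    group
  inv_mem' := by
    rintro ⟨a, c⟩ ⟨m, hm, hc, hx⟩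
    simp only at hm hc hx
    refine ⟨m⁻¹, by rw [map_inv, hm]; rfl, (show Commute c z from hc).inv_left.eq, fun x => ?_⟩
    show f (incK (conjK m⁻¹ x)) = c⁻¹ * f (incK x) * c⁻¹⁻¹
    have h := hx (conjK m⁻¹ x)
    rw [← MulAut.mul_apply, ← map_mul, mul_inv_cancel, map_one, MulAut.one_apply] at h
    rw [h]
    group

theorem conjK_eq {m n : E8Cent.Cc} (h : E8Cent.phiC m = E8Cent.phiC n) : conjK m = conjK n := by
  rcases E8Cent.phiC_eq.1 h with e | e
  · rw [e]
  · rw [e, map_mul, conjK_negC, mul_one]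

/-- A map on the monomial group modulo the sign. -/
theorem exists_fN (hf : NSide z s Q f) : ∃ fN : ↥N1 →* G, Function.Injective fN ∧
    fN.range = normalizer (AA z s : Set G) ∧
    ∀ m : crossStab, fN ⟨E8Cent.piH m, mem_map_of_mem _ m.2⟩ = f m := by
  have hwd : ∀ {a b : crossStab}, E8Cent.piH a = E8Cent.piH b → f a = f b := by
    intro a b e
    rcases E8Cent.piH_eq.1 e with e | e
    · rw [Subtype.ext e]
    · rw [show b = a * (⟨negCo0, mono_mem _⟩ : crossStab) from Subtype.ext e, map_mul,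
        (hf.ker ⟨negCo0, mono_mem _⟩).2 (Or.inr rfl), mul_one]
  choose pre hpre using fun x : ↥N1 => show ∃ m : crossStab, E8Cent.piH m = x by
    obtain ⟨m, hm, e⟩ := x.2
    exact ⟨⟨m, hm⟩, e⟩
  have hφ : ∀ m : crossStab, f (pre ⟨E8Cent.piH m, mem_map_of_mem _ m.2⟩) = f m := fun m => hwd (hpre _)
  let fN : ↥N1 →* G := MonoidHom.mk' (fun x => f (pre x)) fun x y => by
    rw [← map_mul]
    exact hwd (by rw [Subgroup.coe_mul, map_mul, hpre, hpre, hpre, Subgroup.coe_mul])
  refine ⟨fN, (injective_iff_map_eq_one _).2 fun x hx => Subtype.ext ?_, ?_, hφ⟩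
  · rw [← hpre x]
    rcases (hf.ker _).1 hx with e | e
    · rw [e, map_one]; rfl
    · rw [e]
      exact (E8Cent.piH_eq.2 (Or.inr (one_mul negCo0).symm)).symm.trans (map_one E8Cent.piH)
  · refine le_antisymm ?_ ?_
    · rintro _ ⟨x, rfl⟩
      exact hf.mem_N _
    · rw [← hf.range]
      rintro _ ⟨m, rfl⟩
      exact ⟨_, hφ m⟩

/-- The centraliser side. -/
theorem exists_fC (X : Four z Q π ρ s g) (hf : NSide z s Q f) :
    ∃ fC : ↥E8Cent.C1 →* G, Function.Injective fC ∧ fC.range = centralizer ({z} : Set G) ∧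
      fC ⟨E8Cent.z1, mem_centralizer_singleton_iff.2 rfl⟩ = z ∧
      ∀ m : Bc, fC (E8Cent.phiC m) = f (incB m) := by
  classical
  have S := X.base.su
  set h := f.comp incK with hh
  have hQ : h.range = Q := Q_image X hf
  set P := pairs z f with hP
  let pr : P →* E8Cent.C1 := (MonoidHom.fst E8Cent.C1 G).comp P.subtype
  have prsurj : Function.Surjective pr := by
    intro x
    obtain ⟨m, rfl⟩ := E8Cent.phiC_surj x
    obtain ⟨c, hc, hx⟩ := exists_lift X hf m
    exact ⟨⟨(E8Cent.phiC m, c), m, rfl, hc, hx⟩, rfl⟩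
  -- the kernel
  have hcentral : ∀ {c : G}, c * z = z * c → (∀ x, h x = c * h x * c⁻¹) → c = 1 ∨ c = z := by
    intro c hc hx
    refine S.loc.mem_zpowers_iff.1 (S.loc.cent (mem_centralizer_iff.2 fun q hq => ?_))
    rw [SetLike.mem_coe, ← hQ] at hq
    obtain ⟨x, rfl⟩ := hq
    exact eq_mul_inv_iff_mul_eq.1 (hx x)
  have hker : ∀ p : P, pr p = 1 → (p : E8Cent.C1 × G).2 = 1 ∨ (p : E8Cent.C1 × G).2 = z := by
    rintro ⟨⟨a, c⟩, m, hm, hc, hx⟩ e
    change a = 1 at e
    subst e
    refine hcentral hc fun x => ?_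
    have := hx x
    rwa [conjK_eq (hm.trans (map_one E8Cent.phiC).symm), map_one, MulAut.one_apply] at this
  let zP : P := ⟨(1, z), 1, map_one _, rfl, fun x => by
    rw [map_one, MulAut.one_apply]
    have := hf.comm_z x
    rw [MonoidHom.comp_apply] at this
    exact eq_mul_inv_iff_mul_eq.2 this⟩
  have hzP : ∀ p : P, p ∈ pr.ker ↔ p = 1 ∨ p = zP := by
    intro p
    refine ⟨fun e => ?_, fun e => by rcases e with rfl | rfl <;> simp [pr, zP]⟩
    rcases hker p (MonoidHom.mem_ker.1 e) with e' | e'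
    · exact Or.inl (Subtype.ext (Prod.ext (MonoidHom.mem_ker.1 e) e'))
    · exact Or.inr (Subtype.ext (Prod.ext (MonoidHom.mem_ker.1 e) e'))
  haveI : IsMulCommutative pr.ker := ⟨⟨fun a b => by
    rcases (hzP a).1 a.2 with e | e <;> rcases (hzP b).1 b.2 with e' | e' <;>
      exact Subtype.ext (by rw [Subgroup.coe_mul, Subgroup.coe_mul, e, e']; try simp)⟩⟩
  have hcard : Nat.card pr.ker ∣ 2 := by
    have hle : Nat.card pr.ker ≤ 2 := by
      refine le_of_le_of_eq (Nat.card_le_card_of_injective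
        (fun a : pr.ker => if (a : P) = 1 then (0 : Fin 2) else 1) ?_) (Nat.card_fin 2)
      intro a b e
      rcases (hzP a).1 a.2 with ea | ea <;> rcases (hzP b).1 b.2 with eb | eb
      · exact Subtype.ext (ea.trans eb.symm)
      · by_cases h0 : zP = 1
        · exact Subtype.ext (ea.trans (h0.symm.trans eb.symm))
        · simp only [ea, eb, h0, if_true, if_false] at e
          exact absurd e (by decide)
      · by_cases h0 : zP = 1
        · exact Subtype.ext (ea.trans (h0.trans eb.symm))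
        · simp only [ea, eb, h0, if_true, if_false] at e
          exact absurd e (by decide)
      · exact Subtype.ext (ea.trans eb.symm)
    have hpos : 0 < Nat.card pr.ker := Nat.card_pos
    rcases (show Nat.card pr.ker = 1 ∨ Nat.card pr.ker = 2 by omega) with e | e <;> rw [e]
    norm_num
  -- the monomial part
  let diagB : Bc →* P :=
    ((E8Cent.phiC.comp Bc.subtype).prod (f.comp incB)).codRestrict P fun m =>
      ⟨m, rfl, fB_comm hf m, fun x => by
        show _ = f (incB m) * f (incK x) * (f (incB m))⁻¹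
        rw [conjK_incK, map_mul, map_mul, map_inv]⟩
  have hprB : pr.comp diagB = E8Cent.phiC.comp Bc.subtype := rfl
  have hdisj : diagB.range ⊓ pr.ker = ⊥ := by
    refine eq_bot_iff.2 ?_
    rintro _ ⟨⟨m, rfl⟩, hk⟩
    have h1 : E8Cent.phiC (m : E8Cent.Cc) = 1 := hk
    rw [← map_one E8Cent.phiC] at h1
    refine Subtype.ext (Prod.ext (h1.trans (map_one _)) ?_)
    show f (incB m) = 1
    refine (hf.ker _).2 ?_
    rcases E8Cent.phiC_eq.1 h1.symm with e | e
    · exact Or.inl (congrArg Subtype.val e)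
    · exact Or.inr (by rw [show (incB m : Co0) = ((m : E8Cent.Cc) : Co0) from rfl, e, one_mul]; rfl)
  have hidx : (pr.ker ⊔ diagB.range).index ∣ 135 := by
    have e : ((pr.ker ⊔ diagB.range).map pr) = Bc.map E8Cent.phiC := by
      rw [Subgroup.map_sup, (Subgroup.map_eq_bot_iff _).2 le_rfl, bot_sup_eq, MonoidHom.map_range, hprB,
        MonoidHom.range_comp, Subgroup.range_subtype]
    have h2 : ((pr.ker ⊔ diagB.range).map pr).index = (pr.ker ⊔ diagB.range).index := by
      rw [index_map, sup_eq_left.2 le_sup_left, MonoidHom.range_eq_top.2 prsurj, index_top, mul_one]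
    rw [← h2, e, ← index_Bc X hf]
    exact index_map_dvd _ E8Cent.phiC_surj
  obtain ⟨K, hK⟩ := SolvGaschutz.existence (U := pr.ker ⊔ diagB.range) le_sup_left
    (Nat.Coprime.coprime_dvd_left hcard (Nat.Coprime.coprime_dvd_right hidx (by norm_num)))
    le_sup_right hdisj rfl
  have hbij : Function.Bijective (pr.comp K.subtype) := by
    constructor
    · refine (injective_iff_map_eq_one _).2 fun k hk => ?_
      have hk' : (k : P) ∈ (⊥ : Subgroup P) := by
        rw [← hK.isCompl.inf_eq_bot]; exact ⟨hk, k.2⟩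
      exact Subtype.ext (mem_bot.1 hk')
    · intro x
      obtain ⟨p, rfl⟩ := prsurj x
      obtain ⟨⟨a, k⟩, rfl⟩ := hK.existsUnique p |>.exists
      refine ⟨k, ?_⟩
      show pr k = pr (a * k)
      rw [map_mul, MonoidHom.mem_ker.1 a.2, one_mul]
  let E : K ≃* E8Cent.C1 := MulEquiv.ofBijective (pr.comp K.subtype) hbij
  let fC : E8Cent.C1 →* G :=
    ((MonoidHom.snd E8Cent.C1 G).comp (P.subtype.comp K.subtype)).comp E.symm.toMonoidHom
  have hspec : ∀ x, ∃ m, E8Cent.phiC m = x ∧ fC x * z = z * fC x ∧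
      ∀ y, f (incK (conjK m y)) = fC x * f (incK y) * (fC x)⁻¹ := by
    intro x
    obtain ⟨m, hm, hc, hy⟩ := ((E.symm x : K) : P).2
    exact ⟨m, hm.trans (E.apply_symm_apply x), hc, hy⟩
  -- the two maps agree on the monomial part
  let η : Bc → G := fun m => f (incB m) * (fC (E8Cent.phiC m))⁻¹
  have hη : ∀ m, η m = 1 ∨ η m = z := by
    intro m
    have hp : pr (diagB m * ((E.symm (E8Cent.phiC m) : K) : P)⁻¹) = 1 := by
      rw [map_mul, map_inv, mul_inv_eq_one]
      exact (E.apply_symm_apply (E8Cent.phiC m)).symm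
    exact hker _ hp
  have hηc : ∀ m (u : G), u * z = z * u → η m * u = u * η m := by
    intro m u hu
    rcases hη m with e | e <;> rw [e]
    · rw [one_mul, mul_one]
    · exact hu.symm
  have hC : ∀ x, fC x * z = z * fC x := fun x => (hspec x).choose_spec.2.1
  have hηmul : ∀ m n, η (m * n) = η m * η n := by
    intro m n
    show f (incB (m * n)) * (fC (E8Cent.phiC ((m * n : Bc) : E8Cent.Cc)))⁻¹ = η m * η n
    rw [Subgroup.coe_mul, map_mul incB, map_mul f, map_mul E8Cent.phiC, map_mul fC, mul_inv_rev,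
      mul_assoc, ← mul_assoc (f (incB n)), show f (incB n) * (fC (E8Cent.phiC n))⁻¹ = η n from rfl,
      hηc n _ (S.comm_inv (hC _)), ← mul_assoc]
  let ηh : Bc →* G := MonoidHom.mk' η hηmul
  let D : Subgroup G := (ηh.ker).map (f.comp incB)
  have hneg : ∀ m : Bc, f (incB m) = 1 → η m = 1 := by
    intro m e
    have : E8Cent.phiC (m : E8Cent.Cc) = 1 := by
      rw [← map_one E8Cent.phiC, E8Cent.phiC_eq]
      rcases (hf.ker _).1 e with e' | e'
      · exact Or.inl (Subtype.ext e'.symm)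
      · refine Or.inr (Subtype.ext ?_)
        show (1 : Co0) = ((m : E8Cent.Cc) : Co0) * negCo0
        rw [show ((m : E8Cent.Cc) : Co0) = negCo0 from e']
        exact (congrArg Subtype.val E8Cent.negC_sq).symm
    show f (incB m) * (fC (E8Cent.phiC m))⁻¹ = 1
    rw [e, this, map_one, inv_one, mul_one]
  have hpre : ∀ c ∈ HH z s, ∃ m : Bc, f (incB m) = c := by
    intro c hc
    have hc' : c ∈ f.range := by rw [hf.range]; exact hc.2
    obtain ⟨m, rfl⟩ := hc'
    exact ⟨⟨⟨(m : Co0), hf.mem_Cc (mem_centralizer_one.1 hc.1)⟩, m.2⟩, congrArg f (Subtype.ext rfl)⟩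
  have hHH : HH z s ≤ D := HH_le X D fun a ha b hb => by
    obtain ⟨m, rfl⟩ := hpre a ha
    obtain ⟨n, rfl⟩ := hpre b hb
    refine ⟨m * n * m⁻¹ * n⁻¹, ?_, by simp⟩
    show ηh (m * n * m⁻¹ * n⁻¹) = 1
    rw [map_mul, map_mul, map_mul, map_inv, map_inv, show ηh m * ηh n = ηh n * ηh m from
      hηc m _ (by rcases hη n with e | e <;> rw [show ηh n = η n from rfl, e] <;> simp)]
    group
  have hagree : ∀ m : Bc, fC (E8Cent.phiC m) = f (incB m) := by
    intro m
    have hm : f (incB m) ∈ HH z s :=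
      X.base.mem_HH (fB_comm hf m) (hf.mem_N _)
    obtain ⟨n, hn, hnm⟩ := hHH hm
    change f (incB n) = f (incB m) at hnm
    have h1 : η m = 1 := by
      have h2 : η (n⁻¹ * m) = 1 := hneg _ (by rw [map_mul, map_inv, map_mul, map_inv, hnm, inv_mul_cancel])
      have h3 := hηmul n (n⁻¹ * m)
      rw [mul_inv_cancel_left, h2, mul_one] at h3
      exact h3.trans hn
    exact (mul_inv_eq_one.1 h1).symm
  have hz1 : fC ⟨E8Cent.z1, mem_centralizer_singleton_iff.2 rfl⟩ = z := by
    have ht : E8Cent.t0c ∈ Bc := mono_mem _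
    have := hagree ⟨E8Cent.t0c, ht⟩
    rw [show f (incB ⟨E8Cent.t0c, ht⟩) = z from hf.t0] at this
    exact this
  have hinj : Function.Injective fC := by
    refine (injective_iff_map_eq_one _).2 fun x hx => ?_
    obtain ⟨m, hm, -, hy⟩ := hspec x
    have hfix : ∀ y, conjK m y = y := fun y => hf.incK_inj (by
      rw [MonoidHom.comp_apply, MonoidHom.comp_apply, hy, hx, inv_one, one_mul, mul_one])
    have hxQ : x ∈ E8Cent.Q1 := E8Cent.centralizer_Q1 (mem_centralizer_iff.2 fun q hq => by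
      obtain ⟨y, hy', rfl⟩ := hq
      rw [← hm, ← map_mul, ← map_mul]
      congr 1
      have e := congrArg Subtype.val (hfix ⟨y, hy'⟩)
      change m * y * m⁻¹ = y at e
      exact (mul_inv_eq_iff_eq_mul.1 e).symm)
    obtain ⟨y, hy', e⟩ := hxQ
    have hyB : y ∈ Bc := ker_le_crossStab ⟨y, hy'⟩
    have h1 := hagree ⟨y, hyB⟩
    rw [show E8Cent.phiC ((⟨y, hyB⟩ : Bc) : E8Cent.Cc) = x from e, hx] at h1
    have : (⟨y, hy'⟩ : E8Cent.rho.ker) = 1 := hf.incK_inj (by rw [map_one]; exact h1.symm)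
    rw [← e, show y = 1 from congrArg Subtype.val this, map_one]
  refine ⟨fC, hinj, ?_, hz1, hagree⟩
  have hle : fC.range ≤ centralizer ({z} : Set G) := by
    rintro _ ⟨x, rfl⟩
    exact mem_centralizer_one.2 (hC x)
  refine eq_of_le_of_card_ge hle ?_
  rw [← Nat.card_congr (MonoidHom.ofInjective hinj).toEquiv]
  have h1 : Nat.card E8Cent.C1 * 2 ≥ 512 * 348364800 := by
    have h2 := E8Cent.phiC.ker.card_mul_index
    rw [index_ker, MonoidHom.range_eq_top.2 E8Cent.phiC_surj, card_top, E8Cent.group_facts.1] at h2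
    have h3 : Nat.card E8Cent.phiC.ker ≤ 2 := by
      refine le_trans (Nat.card_le_card_of_injective (β := ({1, E8Cent.negC} : Set E8Cent.Cc))
        (fun a => ⟨(a : E8Cent.Cc), ?_⟩) fun a b e => Subtype.ext
          (congrArg (fun u : ({1, E8Cent.negC} : Set E8Cent.Cc) => (u : E8Cent.Cc)) e)) ?_
      · have := MonoidHom.mem_ker.1 a.2
        rw [← map_one E8Cent.phiC] at this
        rcases E8Cent.phiC_eq.1 this.symm with e | e
        · exact Or.inl e
        · exact Or.inr (e.trans (one_mul _))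
      · rw [Nat.card_coe_set_eq]
        exact (Set.ncard_insert_le _ _).trans (by rw [Set.ncard_singleton])
    rw [ge_iff_le, ← h2, mul_comm]
    exact Nat.mul_le_mul_left _ h3
  have h4 : Nat.card ↥(centralizer ({z} : Set G)) ≤ 512 * 174182400 := by
    choose gg hgg hga using fun c : ↥(centralizer ({z} : Set G)) => S.om _ (mem_centralizer_one.1 c.2)
    let φ : ↥(centralizer ({z} : Set G)) →* ↥Om := MonoidHom.mk' (fun c => ⟨gg c, hgg c⟩) fun a b =>
      Subtype.ext (app_inj (funext fun v => by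
        show app (gg (a * b)) v = app (gg a * gg b) v
        rw [app_mul, hga, hga, hga]
        exact S.rho_mul (mem_centralizer_one.1 a.2) (mem_centralizer_one.1 b.2) v))
    have h5 := φ.ker.card_mul_index
    rw [index_ker] at h5
    have hk : Nat.card φ.ker ≤ Nat.card Q :=
      Nat.card_le_card_of_injective (fun c => (⟨((c : ↥(centralizer ({z} : Set G))) : G),
        (S.ker _ (mem_centralizer_one.1 (c : ↥(centralizer ({z} : Set G))).2)).1 fun v => by
          rw [← hga, show gg c = 1 from congrArg Subtype.val (MonoidHom.mem_ker.1 c.2), app_one]⟩ : Q))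
        fun a b e => Subtype.ext (Subtype.ext (congrArg (fun u : Q => (u : G)) e))
    rw [← h5]
    exact Nat.mul_le_mul (hk.trans S.card.le) ((card_le_card_group φ.range).trans card_Om.le)
  omega

/-- Both sides of the amalgam. -/
theorem amalgam (X : Four z Q π ρ s g) :
    ∃ (fC : ↥E8Cent.C1 →* G) (fN : ↥N1 →* G), Function.Injective fC ∧ Function.Injective fN ∧
      fC.range = centralizer ({z} : Set G) ∧ fN.range = normalizer (AA z s : Set G) ∧
      fC ⟨E8Cent.z1, mem_centralizer_singleton_iff.2 rfl⟩ = z ∧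
      E8Cent.Q1.map fC = Q ∧
      ∀ (x : Spor.Co1) (hC : x ∈ E8Cent.C1) (hN : x ∈ N1), fC ⟨x, hC⟩ = fN ⟨x, hN⟩ := by
  obtain ⟨f, hf⟩ := exists_nside X
  obtain ⟨fN, hNi, hNr, hNf⟩ := exists_fN hf
  obtain ⟨fC, hCi, hCr, hCz, hCf⟩ := exists_fC X hf
  have hQ1 : E8Cent.Q1.map fC = Q := by
    rw [← Q_image X hf]
    apply le_antisymm
    · rintro _ ⟨_, ⟨y, hy, rfl⟩, rfl⟩
      exact ⟨⟨y, hy⟩, (hCf ⟨y, ker_le_crossStab ⟨y, hy⟩⟩).symm⟩
    · rintro _ ⟨y, rfl⟩
      exact ⟨_, ⟨(y : E8Cent.Cc), y.2, rfl⟩, hCf ⟨(y : E8Cent.Cc), ker_le_crossStab y⟩⟩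
  refine ⟨fC, fN, hCi, hNi, hCr, hNr, hCz, hQ1, fun x hC hN => ?_⟩
  obtain ⟨m, hm, rfl⟩ := hN
  have hmc : m ∈ E8Cent.Cc := E8Cent.preimage_C1.1 hC
  exact (hCf ⟨⟨m, hmc⟩, hm⟩).trans (hNf ⟨m, hm⟩).symm

end Cfsg.Agent.Co1Amalgam
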