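import Cfsg.Agent.Lib.Co1Recog.Amalgam.Triangles
import Cfsg.Agent.Lib.Co1Recog.Layers.Base

/-!
Cosets as crosses: the local conditions at five crosses give the layers of the graph.
-/

set_option autoImplicit false
set_option maxRecDepth 20000

noncomputable section

namespace Cfsg.Agent.Co1Amalgam

open Cfsg Cfsg.Agent.Golay Cfsg.Agent.Leech Cfsg.Agent.Co1Layers
open scoped Pointwise

theorem exists_rep (x : Spor.Co1 ⧸ N1) :
    ∃ g : Co0, ((E8Cent.piH g : Spor.Co1) : Spor.Co1 ⧸ N1) = x := by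
  obtain ⟨p, rfl⟩ := QuotientGroup.mk_surjective x
  obtain ⟨g, rfl⟩ := QuotientGroup.mk'_surjective (Subgroup.center Co0) p
  exact ⟨g, rfl⟩

/-- The cross of a coset. -/
def cx (x : Spor.Co1 ⧸ N1) : Set leechLattice := (exists_rep x).choose • stdX

theorem smul_stdX_eq {g h : Co0} : g • stdX = h • stdX ↔ g⁻¹ * h ∈ crossStab := by
  rw [crossStab, MulAction.mem_stabilizer_iff, ← stdX, mul_smul, inv_smul_eq_iff, eq_comm]

theorem coset_eq_iff {g h : Co0} :
    ((E8Cent.piH g : Spor.Co1) : Spor.Co1 ⧸ N1) = ((E8Cent.piH h : Spor.Co1) : Spor.Co1 ⧸ N1) ↔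
      g • stdX = h • stdX := by
  rw [QuotientGroup.eq, ← map_inv, ← map_mul, piH_mem_N1, smul_stdX_eq]

theorem cx_mk (g : Co0) : cx ((E8Cent.piH g : Spor.Co1) : Spor.Co1 ⧸ N1) = g • stdX :=
  coset_eq_iff.1 (exists_rep _).choose_spec

theorem cx_injective : Function.Injective cx := fun x y h => by
  rw [← (exists_rep x).choose_spec, ← (exists_rep y).choose_spec]
  exact coset_eq_iff.2 h

theorem cx_base : cx ((1 : Spor.Co1) : Spor.Co1 ⧸ N1) = stdX := by
  rw [← map_one E8Cent.piH, cx_mk, one_smul]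

theorem crossStab_smul {m : Co0} (hm : m ∈ crossStab) {t : XType} {X : Set leechLattice}
    (h : X ∈ crossOrbit t) : m • X ∈ crossOrbit t := by
  obtain ⟨a, rfl⟩ := fixesStd_iff.1 (mem_crossStab.1 hm)
  obtain ⟨b, rfl⟩ := h
  exact ⟨pairMul a b, by simp only; rw [← mul_smul, mono_mul]⟩

theorem crossOrbit_move {t : XType} {X Y : Set leechLattice} (hX : X ∈ crossOrbit t)
    (hY : Y ∈ crossOrbit t) : ∃ k ∈ crossStab, k • X = Y := by
  obtain ⟨a, rfl⟩ := hX
  obtain ⟨b, rfl⟩ := hY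
  exact ⟨mono b * (mono a)⁻¹, mul_mem (mono_mem b) (inv_mem (mono_mem a)),
    by simp only; rw [mul_smul, inv_smul_smul]⟩

theorem xiX_mem : xi • stdX ∈ crossOrbit .B := by
  rw [stdX, smul_xCross]
  refine xCross_mem_crossOrbit ⟨(co0_ip _ _ _).trans (ip_axis_self none), fun i => ?_⟩
  rw [xi_axis]
  exact xiA_cases i none

theorem adjX_iff {G : Co0} {Y : Set leechLattice} :
    AdjX (G • stdX) Y ↔ G⁻¹ • Y ∈ crossOrbit .B := by
  refine ⟨?_, fun h => ⟨G, rfl, h⟩⟩
  rintro ⟨g, hg, hY⟩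
  have := crossStab_smul (smul_stdX_eq.1 hg) hY
  rwa [mul_smul, smul_inv_smul] at this

theorem adjX_smul (k : Co0) {X Y : Set leechLattice} (h : AdjX X Y) : AdjX (k • X) (k • Y) := by
  obtain ⟨g, rfl, hY⟩ := h
  exact ⟨k * g, (mul_smul _ _ _).symm, by rwa [mul_inv_rev, mul_smul, inv_smul_smul]⟩

theorem edgeAdj_iff {x y : Spor.Co1 ⧸ N1} : edgeAdj N1 sigma1 x y ↔ AdjX (cx x) (cx y) := by
  constructor
  · rintro ⟨p, rfl, rfl⟩
    obtain ⟨g, rfl⟩ := QuotientGroup.mk'_surjective (Subgroup.center Co0) p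
    show AdjX (cx ((E8Cent.piH g : Spor.Co1) : Spor.Co1 ⧸ N1))
      (cx ((E8Cent.piH g * E8Cent.piH xi : Spor.Co1) : Spor.Co1 ⧸ N1))
    rw [← map_mul, cx_mk, cx_mk, adjX_iff, mul_smul, inv_smul_smul]
    exact xiX_mem
  · rintro ⟨g, hg, hY⟩
    obtain ⟨k, hk, hkY⟩ := crossOrbit_move xiX_mem hY
    refine ⟨E8Cent.piH (g * k), cx_injective ?_, cx_injective ?_⟩
    · rw [cx_mk, mul_smul, hg]
      exact congrArg (g • ·) (MulAction.mem_stabilizer_iff.1 hk)
    · rw [show E8Cent.piH (g * k) * sigma1 = E8Cent.piH (g * k * xi) from (map_mul _ _ _).symm, cx_mk,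
        mul_smul, mul_smul, hkY, smul_inv_smul]

theorem cx_exists {X Y : Set leechLattice} (h : AdjX X Y) :
    (∃ x, cx x = X) ∧ ∃ y, cx y = Y := by
  obtain ⟨g, rfl, hY⟩ := h
  obtain ⟨k, -, hk⟩ := crossOrbit_move xiX_mem hY
  refine ⟨⟨_, cx_mk g⟩, _, (cx_mk (g * k * xi)).trans ?_⟩
  rw [mul_smul, mul_smul, hk, smul_inv_smul]

theorem cx_cases (x : Spor.Co1 ⧸ N1) : cx x = stdX ∨ ∃ t, cx x ∈ crossOrbit t := by
  unfold cx
  rw [stdX, smul_xCross]
  exact cross_cases ((co0_ip _ _ _).trans (ip_axis_self none))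

theorem dX_smul_stab {m : Co0} (hm : m ∈ crossStab) {X : Set leechLattice}
    (h : X = stdX ∨ ∃ t, X ∈ crossOrbit t) : dX (m • X) = dX X := by
  rcases h with rfl | ⟨t, ht⟩
  · rw [show m • stdX = stdX from MulAction.mem_stabilizer_iff.1 hm]
  · rw [dX_of_mem ht, dX_of_mem (crossStab_smul hm ht)]

theorem lay_pos (t : XType) : lay t ≠ 0 := by cases t <;> decide

/-- The layers of the graph, from the local conditions. -/
theorem layered_of_local (h : ∀ t, ∃ g, LocalCert t g) :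
    ∃ (d : Spor.Co1 ⧸ N1 → ℕ) (B : ℕ),
      Co1Mult.Layered (edgeAdj N1 sigma1) d ((1 : Spor.Co1) : Spor.Co1 ⧸ N1) B := by
  classical
  choose gt hgt using h
  -- every coset away from the base is the translate of a representative
  have hnorm : ∀ x, dX (cx x) ≠ 0 → ∃ t, ∃ k ∈ crossStab, cx x = (k * gt t) • stdX ∧ dX (cx x) = lay t := by
    intro x hx
    rcases cx_cases x with e | ⟨t, ht⟩
    · rw [e, dX_stdX] at hx; exact absurd rfl hx
    · obtain ⟨k, hk, e⟩ := crossOrbit_move (hgt t).mem ht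
      exact ⟨t, k, hk, by rw [mul_smul, e], dX_of_mem ht⟩
  -- neighbours of a translate of a representative
  have hnb : ∀ {x y t k}, k ∈ crossStab → cx x = (k * gt t) • stdX → edgeAdj N1 sigma1 x y →
      ∃ Y, Y ∈ crossOrbit .B ∧ cx y = (k * gt t) • Y ∧ dX (cx y) = dX (gt t • Y) := by
    intro x y t k hk hx hxy
    rw [edgeAdj_iff, hx, adjX_iff] at hxy
    refine ⟨_, hxy, (smul_inv_smul _ _).symm, ?_⟩
    rw [mul_inv_rev, mul_smul, smul_inv_smul, dX_smul_stab (inv_mem hk) (cx_cases y)]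
  -- neighbours given by the certificate
  have hback : ∀ {x t k}, k ∈ crossStab → cx x = (k * gt t) • stdX → dX (cx x) = lay t →
      ∀ Y, DownAt t (gt t) Y → ∃ y, cx y = (k * gt t) • Y ∧ Co1Mult.Down (edgeAdj N1 sigma1) (fun u => dX (cx u)) x y := by
    intro x t k hk hx hd Y hY
    have hadj : AdjX ((k * gt t) • stdX) ((k * gt t) • Y) := by
      rw [adjX_iff, inv_smul_smul]; exact hY.1
    obtain ⟨y, hy⟩ := (cx_exists hadj).2
    have he : edgeAdj N1 sigma1 x y := edgeAdj_iff.2 (by rw [hx, hy]; exact hadj)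
    refine ⟨y, hy, he, ?_⟩
    show dX (cx y) + 1 = dX (cx x)
    obtain ⟨Y', -, hy', hd'⟩ := hnb hk hx he
    rw [hd, hd', ← MulAction.injective (k * gt t) (hy.symm.trans hy'), hY.2]
  have hzero : ∀ x, dX (cx x) = 0 → x = ((1 : Spor.Co1) : Spor.Co1 ⧸ N1) := fun x hx => by
    rcases cx_cases x with e | ⟨t, ht⟩
    · exact cx_injective (e.trans cx_base.symm)
    · rw [dX_of_mem ht] at hx; exact absurd hx (lay_pos t)
  refine ⟨fun u => dX (cx u), 3, ⟨?irrefl, hzero, ?bound, ?step, ?pred, ?conn, ?apex⟩⟩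
  case irrefl =>
    intro x hx
    rw [edgeAdj_iff] at hx
    obtain ⟨g, hg, hY⟩ := hx
    rw [hg, inv_smul_smul] at hY
    exact stdX_not_mem _ hY
  case bound =>
    intro x
    rcases cx_cases x with e | ⟨t, ht⟩
    · simp only [e, dX_stdX]; omega
    · simp only [dX_of_mem ht]; cases t <;> decide
  case step =>
    intro x y hxy
    show dX (cx y) ≤ dX (cx x) + 1
    by_cases h0 : dX (cx x) = 0
    · rw [edgeAdj_iff, show cx x = (1 : Co0) • stdX by rw [hzero x h0, cx_base, one_smul], adjX_iff,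
        inv_one, one_smul] at hxy
      rw [dX_of_mem hxy, h0]; decide
    · obtain ⟨t, k, hk, hx, hd⟩ := hnorm x h0
      obtain ⟨Y, hY, -, hdy⟩ := hnb hk hx hxy
      rw [hdy, hd]
      exact (hgt t).step Y hY
  case pred =>
    intro x h0
    obtain ⟨t, k, hk, hx, hd⟩ := hnorm x h0
    obtain ⟨R, hR, -⟩ := (hgt t).down
    obtain ⟨y, -, hy⟩ := hback hk hx hd R hR
    exact ⟨y, hy⟩
  case conn =>
    intro x p q hp hq
    obtain ⟨t, k, hk, hx, hd⟩ := hnorm x (by have h := hp.2; simp only at h; omega)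
    obtain ⟨P, hP, hpP, hdp⟩ := hnb hk hx hp.1
    obtain ⟨Q, hQ, hqQ, hdq⟩ := hnb hk hx hq.1
    obtain ⟨R, -, hR⟩ := (hgt t).down
    have hP' : DownAt t (gt t) P := ⟨hP, by rw [← hdp, ← hd]; exact hp.2⟩
    have hQ' : DownAt t (gt t) Q := ⟨hQ, by rw [← hdq, ← hd]; exact hq.2⟩
    let f : Set leechLattice → Spor.Co1 ⧸ N1 := fun Y => Function.invFun cx ((k * gt t) • Y)
    have hf : ∀ {Y y}, cx y = (k * gt t) • Y → f Y = y := fun {Y y} e => by
      show Function.invFun cx _ = y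
      rw [← e, Function.leftInverse_invFun cx_injective]
    rw [← hf hpP, ← hf hqQ]
    refine ((hR P hP').2.trans (hR Q hQ').1).lift f ?_
    rintro a b ⟨hab, hb⟩
    have hab' := adjX_smul (k * gt t) hab
    obtain ⟨⟨u, hu⟩, -⟩ := cx_exists hab'
    obtain ⟨v, hv, hvd⟩ := hback hk hx hd b hb
    simp only [Function.onFun]
    rw [hf hu, hf hv]
    exact ⟨edgeAdj_iff.2 (by rw [hu, hv]; exact hab'), hvd⟩
  case apex =>
    intro x y hxy hdd
    change dX (cx x) = dX (cx y) at hdd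
    by_cases h0 : dX (cx x) = 0
    · exfalso
      have e := hzero x h0
      rw [hzero y (hdd.symm.trans h0), e, edgeAdj_iff, cx_base] at hxy
      obtain ⟨g, hg, hY⟩ := hxy
      rw [hg, inv_smul_smul] at hY
      exact stdX_not_mem _ hY
    · obtain ⟨t, k, hk, hx, hd⟩ := hnorm x h0
      obtain ⟨Y, hY, hyY, hdy⟩ := hnb hk hx hxy
      obtain ⟨P, hP, hYP⟩ := (hgt t).apex Y hY (by rw [← hdy, ← hdd, hd])
      obtain ⟨p, hp, hpd⟩ := hback hk hx hd P hP
      exact Or.inl ⟨p, hpd, edgeAdj_iff.2 (by rw [hyY, hp]; exact adjX_smul _ hYP)⟩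

end Cfsg.Agent.Co1Amalgam
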