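import Cfsg.Agent.Lib.Co1Recog.Amalgam.Final
import Cfsg.Agent.Lib.Co1Recog.LayeredCert

/-!
Recognition of the first Conway group up to the surjectivity of the embedding.
-/

set_option autoImplicit false
set_option maxRecDepth 20000
set_option synthInstance.maxSize 4000
set_option synthInstance.maxHeartbeats 400000

namespace Cfsg.Agent.Co1Amalgam

open Cfsg Subgroup

/-- The embedding of the first Conway group, with what the endgame needs. -/
theorem exists_embedding {G : Type*} [Group G] [Finite G]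
    (z : G) (hz : orderOf z = 2) (Q : Subgroup (Subgroup.centralizer ({z} : Set G))) [Q.Normal]
    (hF : Cfsg.generalizedFittingSubgroup (Subgroup.centralizer ({z} : Set G)) = Q)
    (hQ : Cfsg.IsExtraspecial 2 Q) (hcard : Nat.card Q = 2 ^ 9)
    (e : (Subgroup.centralizer ({z} : Set G)) ⧸ Q ≃*
      Cfsg.Omega (ZMod 2) (Cfsg.quadFormPlus 4 (ZMod 2)))
    (hnwc : ∃ g : G, (∃ hq : g * z * g⁻¹ ∈ Subgroup.centralizer ({z} : Set G),
      (⟨g * z * g⁻¹, hq⟩ : Subgroup.centralizer ({z} : Set G)) ∈ Q) ∧ g * z * g⁻¹ ≠ z) :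
    ∃ φ : Spor.Co1 →* G, Function.Injective φ ∧ φ E8Cent.z1 = z ∧
      (∀ g, g * φ E8Cent.z1 = φ E8Cent.z1 * g → g ∈ φ.range) ∧
      (∃ a b c : G, orderOf a = 2 ∧ orderOf b = 2 ∧ orderOf c = 2 ∧ ¬ IsConj a b ∧ ¬ IsConj a c ∧
        ¬ IsConj b c ∧ ∀ x : G, orderOf x = 2 → IsConj x a ∨ IsConj x b ∨ IsConj x c) ∧
      ∀ x : G, x * x = 1 → ∃ g : G, g * x * g⁻¹ * φ E8Cent.z1 = φ E8Cent.z1 * (g * x * g⁻¹) :=
  exists_phi (edgeData tri_block Co1Recog.layered_cert) z hz Q hF hQ hcard e hnwc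

end Cfsg.Agent.Co1Amalgam
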