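import Cfsg.Agent.Lib.Co1Mult.Cover
import Mathlib.GroupTheory.GroupAction.Quotient

/-!
Completion of an amalgam over a layered coset graph: two compatible homomorphisms on a point
stabiliser and on the stabiliser of a block through an edge extend to the whole group.
-/

set_option autoImplicit false

namespace Cfsg.Agent.Co1Amalgam

open Co1Mult

/-- A section through all edges of a lifted layered graph. -/
theorem exists_lift_section {E : Type*} [Group E] {Ω Ω' : Type*} [MulAction E Ω] [MulAction E Ω']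
    {π : Ω' → Ω} {adj : Ω → Ω → Prop} {R : Ω' → Ω' → Prop} (hsurj : Function.Surjective π)
    (hR : Lifting (E := E) π adj R)
    (hsymm : ∀ x y, adj x y → adj y x) (hsR : ∀ {a b}, R a b → R b a)
    (htR : ∀ {a b c}, R a b → R b c → adj (π a) (π c) → R a c)
    {d : Ω → ℕ} {r : Ω} {N : ℕ} (hL : Layered adj d r N) :
    ∃ S : Ω → Ω', (∀ x, π (S x) = x) ∧ ∀ x y, adj x y → R (S x) (S y) := by
  classical
  suffices h : ∀ n, ∃ S : Ω → Ω', (∀ x, π (S x) = x) ∧
      ∀ x y, d x ≤ n → d y ≤ n → adj x y → R (S x) (S y) by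
    obtain ⟨S, h1, h2⟩ := h N
    exact ⟨S, h1, fun x y => h2 x y (hL.bound x) (hL.bound y)⟩
  intro n
  induction n with
  | zero =>
    choose S hS using hsurj
    refine ⟨S, hS, fun x y hx hy hxy => absurd hxy ?_⟩
    rw [hL.zero x (Nat.le_zero.1 hx), hL.zero y (Nat.le_zero.1 hy)]
    exact hL.irrefl r
  | succ n ih =>
    obtain ⟨S, hS, hSR⟩ := ih
    have hlift : ∀ x, d x = n + 1 → ∃ b, π b = x ∧ ∃ p, Down adj d x p ∧ R (S p) b := by
      intro x hx
      obtain ⟨p, hp⟩ := hL.pred x (by omega)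
      obtain ⟨b, hb, hpb⟩ := hR.exists_lift (S p) x (by rw [hS]; exact hsymm _ _ hp.1)
      exact ⟨b, hb, p, hp, hpb⟩
    choose f hf p₀ hp₀ hfR using hlift
    let T : Ω → Ω' := fun x => if h : d x = n + 1 then f x h else S x
    have hT : ∀ x, π (T x) = x := fun x => by
      simp only [T]; split_ifs with h
      · exact hf x h
      · exact hS x
    have hTS : ∀ x, d x ≤ n → T x = S x := fun x hx => dif_neg (by omega)
    have hdown : ∀ x, d x = n + 1 → ∀ p, Down adj d x p → R (S p) (T x) := by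
      intro x hx p hp
      rw [show T x = f x hx from dif_pos hx]
      induction hL.conn x _ p (hp₀ x hx) hp with
      | refl => exact hfR x hx
      | @tail a b hca hab ih =>
        have ha : d a ≤ n ∧ Down adj d x a := by
          rcases Relation.ReflTransGen.cases_tail hca with e | ⟨c, -, -, hc⟩
          · subst e; exact ⟨by have := (hp₀ x hx).2; omega, hp₀ x hx⟩
          · exact ⟨by have := hc.2; omega, hc⟩
        have hRab := hSR a b ha.1 (by have := hab.2.2; omega) hab.1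
        exact htR (hsR hRab) (ih ha.2) (by rw [hS, hf]; exact hsymm _ _ hab.2.1)
    refine ⟨T, hT, fun x y hx hy hxy => ?_⟩
    have hup : ∀ x y, d x = n + 1 → d y ≤ n → adj x y → R (T x) (T y) := fun x y hx hy hxy => by
      have := hL.step y x (hsymm _ _ hxy)
      rw [hTS y hy]
      exact hsR (hdown x hx y ⟨hxy, by omega⟩)
    have hsame : ∀ x y p, d x = n + 1 → d y = n + 1 → adj x y → Down adj d x p → adj y p →
        R (T x) (T y) := fun x y p hx hy hxy hp hyp =>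
      htR (hsR (hdown x hx p hp)) (hdown y hy p ⟨hyp, by have := hp.2; omega⟩)
        (by rw [hT, hT]; exact hxy)
    rcases Nat.lt_or_ge n (d x) with h | h <;> rcases Nat.lt_or_ge n (d y) with h' | h'
    · rcases hL.apex x y hxy (by omega) with ⟨p, hp, hyp⟩ | ⟨w, hxw, hyw, hw, ⟨p, hp, hwp⟩, q, hq, hwq⟩
      · exact hsame x y p (by omega) (by omega) hxy hp hyp
      · exact htR (hsame x w p (by omega) (by omega) hxw hp hwp)
          (hsR (hsame y w q (by omega) (by omega) hyw hq hwq)) (by rw [hT, hT]; exact hxy)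
    · exact hup x y (by omega) h' hxy
    · exact hsR (hup y x (by omega) h (hsymm _ _ hxy))
    · rw [hTS x h, hTS y h']; exact hSR x y h h' hxy

variable {P : Type*} [Group P]

/-- The translates of the edge from the base coset through `σ`. -/
def edgeAdj (N : Subgroup P) (σ : P) (x y : P ⧸ N) : Prop :=
  ∃ p : P, ((p : P) : P ⧸ N) = x ∧ ((p * σ : P) : P ⧸ N) = y

theorem edgeAdj_smul {N : Subgroup P} {σ : P} (g : P) {x y : P ⧸ N} (h : edgeAdj N σ x y) :
    edgeAdj N σ (g • x) (g • y) := by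
  obtain ⟨p, rfl, rfl⟩ := h
  exact ⟨g * p, rfl, by rw [mul_assoc]; rfl⟩

theorem edgeAdj_symm {N : Subgroup P} {σ : P} (h2 : σ * σ ∈ N) {x y : P ⧸ N}
    (h : edgeAdj N σ x y) : edgeAdj N σ y x := by
  obtain ⟨p, rfl, rfl⟩ := h
  refine ⟨p * σ, rfl, QuotientGroup.eq.2 ?_⟩
  rw [show (p * σ * σ)⁻¹ * p = (σ * σ)⁻¹ by group]
  exact inv_mem h2

/-- What the graph has to satisfy. -/
structure GraphCert (N C : Subgroup P) (σ : P) : Prop where
  mem : σ ∈ C
  sq : σ * σ ∈ N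
  inC : ∀ c ∈ C, edgeAdj N σ ((1 : P) : P ⧸ N) ((c : P) : P ⧸ N) →
    ∃ n ∈ N, n ∈ C ∧ (n * σ)⁻¹ * c ∈ N
  tri : ∀ x y w : P ⧸ N, edgeAdj N σ x y → edgeAdj N σ y w → edgeAdj N σ x w →
    ∃ (p a b c : P), a ∈ C ∧ b ∈ C ∧ c ∈ C ∧ ((p * a : P) : P ⧸ N) = x ∧
      ((p * b : P) : P ⧸ N) = y ∧ ((p * c : P) : P ⧸ N) = w
  genC : C ≤ Subgroup.closure (((N ⊓ C : Subgroup P) : Set P) ∪ {σ})
  gen : N ⊔ C = ⊤
  layered : ∃ (d : P ⧸ N → ℕ) (B : ℕ), Layered (edgeAdj N σ) d ((1 : P) : P ⧸ N) B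

variable {G : Type*} [Group G]

/-- **Completion of the amalgam.** -/
theorem exists_extension {N C : Subgroup P} {σ : P} (H : GraphCert N C σ)
    (fN : ↥N →* G) (fC : ↥C →* G)
    (hag : ∀ (x : P) (hC : x ∈ C) (hN : x ∈ N), fC ⟨x, hC⟩ = fN ⟨x, hN⟩)
    (hedge : ∀ (k : P) (hk : k ∈ N) (hk' : σ⁻¹ * k * σ ∈ N),
      fN ⟨k, hk⟩ = fC ⟨σ, H.mem⟩ * fN ⟨σ⁻¹ * k * σ, hk'⟩ * (fC ⟨σ, H.mem⟩)⁻¹) :
    ∃ φ : P →* G, (∀ c : ↥C, φ c = fC c) ∧ ∀ n : ↥N, φ n = fN n := by
  classical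
  let gN : ↥N →* P × G := N.subtype.prod fN
  let gC : ↥C →* P × G := C.subtype.prod fC
  set E : Subgroup (P × G) := gN.range ⊔ gC.range with hE
  let iN : ↥N →* E := gN.codRestrict E fun n => Subgroup.mem_sup_left ⟨n, rfl⟩
  let iC : ↥C →* E := gC.codRestrict E fun c => Subgroup.mem_sup_right ⟨c, rfl⟩
  have hiag : ∀ (x : P) (hC : x ∈ C) (hN : x ∈ N), iC ⟨x, hC⟩ = iN ⟨x, hN⟩ := fun x hC hN =>
    Subtype.ext (Prod.ext rfl (hag x hC hN))
  let pr : E →* P := (MonoidHom.fst P G).comp E.subtype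
  letI actE : MulAction E (P ⧸ N) := MulAction.compHom _ pr
  let Nh : Subgroup E := iN.range
  have prN : ∀ n, pr (iN n) = n := fun n => rfl
  have prC : ∀ c, pr (iC c) = c := fun c => rfl
  let proj : E ⧸ Nh → P ⧸ N := Quotient.lift (fun e : E => ((pr e : P) : P ⧸ N)) fun a b h => by
    obtain ⟨n, hn⟩ := QuotientGroup.leftRel_apply.1 h
    refine QuotientGroup.eq.2 ?_
    rw [← map_inv, ← map_mul, ← hn, prN]
    exact n.2
  have hproj : ∀ e : E, proj (e : E ⧸ Nh) = ((pr e : P) : P ⧸ N) := fun e => rfl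
  have hequiv : ∀ (e : E) (a : E ⧸ Nh), proj (e • a) = e • proj a := by
    intro e a
    obtain ⟨b, rfl⟩ := QuotientGroup.mk_surjective a
    show ((pr (e * b) : P) : P ⧸ N) = pr e • ((pr b : P) : P ⧸ N)
    rw [map_mul]
    rfl
  set σC : ↥C := ⟨σ, H.mem⟩ with hσC
  let R : E ⧸ Nh → E ⧸ Nh → Prop := fun a b =>
    ∃ e : E, (e : E ⧸ Nh) = a ∧ ((e * iC σC : E) : E ⧸ Nh) = b
  have hgen : Subgroup.closure ((Set.range iN) ∪ Set.range iC) = ⊤ := by
    refine eq_top_iff.2 fun e _ => ?_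
    have : E ≤ (Subgroup.closure ((Set.range iN) ∪ Set.range iC)).map E.subtype := by
      refine sup_le ?_ ?_
      · rintro _ ⟨n, rfl⟩
        exact ⟨iN n, Subgroup.subset_closure (Or.inl ⟨n, rfl⟩), rfl⟩
      · rintro _ ⟨c, rfl⟩
        exact ⟨iC c, Subgroup.subset_closure (Or.inr ⟨c, rfl⟩), rfl⟩
    obtain ⟨e', he', ee⟩ := this e.2
    rwa [show e' = e from Subtype.ext ee] at he'
  have prsurj : Function.Surjective pr := by
    rw [← MonoidHom.range_eq_top, eq_top_iff, ← H.gen]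
    exact sup_le (fun n hn => ⟨iN ⟨n, hn⟩, rfl⟩) fun c hc => ⟨iC ⟨c, hc⟩, rfl⟩
  have psurj : Function.Surjective proj := fun x => by
    obtain ⟨p, rfl⟩ := QuotientGroup.mk_surjective x
    obtain ⟨e, rfl⟩ := prsurj p
    exact ⟨(e : E ⧸ Nh), rfl⟩
  have unique0 : ∀ {a : E ⧸ Nh} {b b' : E ⧸ Nh}, R a b → R a b' → proj b = proj b' → b = b' := by
    rintro a _ _ ⟨e, rfl, rfl⟩ ⟨e', he, rfl⟩ hp
    obtain ⟨n, hn⟩ := QuotientGroup.eq.1 he.symm
    have h1 : σ⁻¹ * (n : P) * σ ∈ N := by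
      rw [hproj, hproj] at hp
      have := QuotientGroup.eq.1 hp
      rw [map_mul, map_mul] at this
      have hn' : pr e⁻¹ * pr e' = n := by rw [← map_mul, ← hn, prN]
      rw [map_inv] at hn'
      rw [← hn']
      simpa only [prC, hσC, mul_inv_rev, mul_assoc] using this
    refine QuotientGroup.eq.2 ⟨⟨_, h1⟩, ?_⟩
    rw [show (e * iC σC)⁻¹ * (e' * iC σC) = (iC σC)⁻¹ * (e⁻¹ * e') * iC σC by group, ← hn]
    refine Subtype.ext (Prod.ext ?_ ?_)
    · rfl
    · show fN ⟨σ⁻¹ * (n : P) * σ, h1⟩ = (fC σC)⁻¹ * fN n * fC σC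
      rw [show fN n = fC σC * fN ⟨σ⁻¹ * (n : P) * σ, h1⟩ * (fC σC)⁻¹ from hedge n n.2 h1]
      group
  have hR : Lifting (E := E) proj (edgeAdj N σ) R :=
    { proj := by
        rintro _ _ ⟨e, rfl, rfl⟩
        exact ⟨pr e, rfl, by rw [hproj, map_mul, prC]⟩
      exists_lift := by
        intro a y h
        obtain ⟨e, rfl⟩ := QuotientGroup.mk_surjective a
        obtain ⟨p, hp, rfl⟩ := h
        rw [hproj] at hp
        have hn : (pr e)⁻¹ * p ∈ N := QuotientGroup.eq.1 hp.symm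
        refine ⟨((e * iN ⟨_, hn⟩ * iC σC : E) : E ⧸ Nh), ?_, e * iN ⟨_, hn⟩, QuotientGroup.eq.2 ?_, rfl⟩
        · rw [hproj, map_mul, map_mul, prN, prC, mul_inv_cancel_left]
        · exact ⟨⟨_, hn⟩⁻¹, by rw [map_inv]; group⟩
      unique := unique0
      invariant := by
        rintro g _ _ ⟨e, rfl, rfl⟩
        exact ⟨g * e, rfl, by rw [mul_assoc]; rfl⟩ }
  have hsymm : ∀ x y, edgeAdj N σ x y → edgeAdj N σ y x := fun x y => edgeAdj_symm H.sq
  have hsR : ∀ {a b}, R a b → R b a := by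
    rintro _ _ ⟨e, rfl, rfl⟩
    refine ⟨e * iC σC, rfl, QuotientGroup.eq.2 ⟨⟨σ * σ, H.sq⟩⁻¹, ?_⟩⟩
    have h : iN ⟨σ * σ, H.sq⟩ = iC σC * iC σC := by
      rw [← map_mul]
      exact (hiag _ (mul_mem H.mem H.mem) H.sq).symm
    rw [map_inv, h]
    group
  -- lifted edges inside a translate of the block
  have hblock : ∀ (e : E) (a b : ↥C), edgeAdj N σ ((pr e * a : P) : P ⧸ N) ((pr e * b : P) : P ⧸ N) →
      R ((e * iC a : E) : E ⧸ Nh) ((e * iC b : E) : E ⧸ Nh) := by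
    intro e a b h
    have h' := edgeAdj_smul (pr e * a)⁻¹ h
    change edgeAdj N σ (((pr e * a)⁻¹ * (pr e * a) : P) : P ⧸ N) (((pr e * a)⁻¹ * (pr e * b) : P) : P ⧸ N) at h'
    rw [inv_mul_cancel, show (pr e * (a : P))⁻¹ * (pr e * b) = ((a⁻¹ * b : ↥C) : P) by
      rw [Subgroup.coe_mul, Subgroup.coe_inv]; group] at h'
    obtain ⟨n, hn, hnC, hm⟩ := H.inC _ (a⁻¹ * b).2 h'
    refine ⟨e * iC a * iN ⟨n, hn⟩, QuotientGroup.eq.2 ?_, QuotientGroup.eq.2 ?_⟩
    · exact ⟨⟨n, hn⟩⁻¹, by rw [map_inv]; group⟩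
    · refine ⟨⟨_, hm⟩, ?_⟩
      rw [← hiag _ (mul_mem (inv_mem (mul_mem hnC H.mem)) (a⁻¹ * b).2) hm,
        show (⟨(n * σ)⁻¹ * ((a⁻¹ * b : ↥C) : P), _⟩ : ↥C) = (⟨n, hnC⟩ * σC)⁻¹ * (a⁻¹ * b) from rfl,
        map_mul, map_mul, map_inv, map_mul, map_inv, hiag n hnC hn]
      group
  have htR : ∀ {a b c}, R a b → R b c → edgeAdj N σ (proj a) (proj c) → R a c := by
    intro a b c hab hbc hac
    obtain ⟨p, u, v, w, hu, hv, hw, ex, ey, ew⟩ := H.tri _ _ _ (hR.proj hab) (hR.proj hbc) hac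
    obtain ⟨e₀, rfl⟩ := prsurj p
    obtain ⟨ea, rfl⟩ := QuotientGroup.mk_surjective a
    -- move the lift of the block through the first point
    rw [hproj] at ex
    obtain ⟨n, hn⟩ : ∃ n : ↥N, (pr e₀ * u)⁻¹ * pr ea = n := ⟨⟨_, QuotientGroup.eq.1 ex⟩, rfl⟩
    set e := ea * (iN n)⁻¹ * (iC ⟨u, hu⟩)⁻¹ with he
    have hpe : pr e = pr e₀ := by
      rw [he, map_mul, map_mul, map_inv, map_inv, prN, prC, ← hn]
      show pr ea * ((pr e₀ * u)⁻¹ * pr ea)⁻¹ * u⁻¹ = pr e₀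
      group
    rw [← hpe] at ey ew
    have ea' : (ea : E ⧸ Nh) = ((e * iC ⟨u, hu⟩ : E) : E ⧸ Nh) := by
      refine QuotientGroup.eq.2 ⟨n⁻¹, ?_⟩
      rw [map_inv, he]
      group
    have exe : ((pr e * u : P) : P ⧸ N) = proj (ea : E ⧸ Nh) := by rw [hproj, hpe]; exact ex
    have hb : b = ((e * iC ⟨v, hv⟩ : E) : E ⧸ Nh) := by
      refine hR.unique hab ?_ (by rw [hproj, map_mul]; exact ey.symm)
      rw [ea']
      exact hblock e ⟨u, hu⟩ ⟨v, hv⟩ (by rw [exe, ey]; exact hR.proj hab)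
    have hc : c = ((e * iC ⟨w, hw⟩ : E) : E ⧸ Nh) := by
      refine hR.unique hbc ?_ (by rw [hproj, map_mul]; exact ew.symm)
      rw [hb]
      exact hblock e ⟨v, hv⟩ ⟨w, hw⟩ (by rw [ey, ew]; exact hR.proj hbc)
    rw [ea', hc]
    exact hblock e ⟨u, hu⟩ ⟨w, hw⟩ (by rw [exe, ew]; exact hac)
  obtain ⟨d, B, hL⟩ := H.layered
  obtain ⟨S₀, hS₀, hSR₀⟩ := exists_lift_section psurj hR hsymm hsR htR hL
  -- normalise at the base point
  obtain ⟨e₀, he₀⟩ := QuotientGroup.mk_surjective (S₀ ((1 : P) : P ⧸ N))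
  have he₀N : pr e₀ ∈ N := by
    have h := hS₀ ((1 : P) : P ⧸ N)
    rw [← he₀, hproj] at h
    have := QuotientGroup.eq.1 h.symm
    rwa [inv_one, one_mul] at this
  set δ := e₀ * (iN ⟨_, he₀N⟩)⁻¹ with hδ
  have hδ1 : ∀ x : P ⧸ N, δ⁻¹ • x = x := fun x => by
    show pr δ⁻¹ • x = x
    rw [hδ, map_inv, map_mul, map_inv, prN, mul_inv_cancel, inv_one, one_smul]
  let S : P ⧸ N → E ⧸ Nh := fun x => δ⁻¹ • S₀ x
  have hS : ∀ x, proj (S x) = x := fun x => by rw [hequiv, hS₀, hδ1]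
  have hSR : ∀ x y, edgeAdj N σ x y → R (S x) (S y) := fun x y h => hR.invariant δ⁻¹ (hSR₀ x y h)
  have hS1 : S ((1 : P) : P ⧸ N) = ((1 : E) : E ⧸ Nh) := by
    show δ⁻¹ • S₀ _ = _
    rw [← he₀]
    refine QuotientGroup.eq.2 ⟨⟨_, he₀N⟩⁻¹, ?_⟩
    rw [map_inv, hδ]
    simp only [smul_eq_mul]
    group
  -- every generator keeps the section
  have step : ∀ e : E, e • S ((1 : P) : P ⧸ N) = S (e • ((1 : P) : P ⧸ N)) →
      ∀ x, e • S x = S (e • x) := by
    intro e h0 x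
    induction hn : d x using Nat.strong_induction_on generalizing x with
    | _ n ih =>
      rcases eq_or_ne (d x) 0 with hx | hx
      · rw [hL.zero x hx]; exact h0
      · obtain ⟨p, hp⟩ := hL.pred x hx
        have ip' := ih _ (by have := hp.2; omega) p rfl
        have e1 := hR.invariant e (hSR p x (hsymm _ _ hp.1))
        have e2 := hSR (e • p) (e • x) (edgeAdj_smul (pr e) (hsymm _ _ hp.1))
        rw [← ip'] at e2
        exact hR.unique e1 e2 (by rw [hequiv, hS, hS])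
  let T : Subgroup E :=
    { carrier := {e | ∀ x, e • S x = S (e • x)}
      one_mem' := fun x => by rw [one_smul, one_smul]
      mul_mem' := fun {a b} ha hb x => by rw [mul_smul, hb, ha, mul_smul]
      inv_mem' := fun {a} ha x => by
        rw [inv_smul_eq_iff, ha, smul_inv_smul] }
  have hTN : ∀ n, iN n ∈ T := fun n => step _ (by
    rw [hS1, show iN n • (((1 : P) : P ⧸ N)) = ((1 : P) : P ⧸ N) from
      QuotientGroup.eq.2 (by
        show ((n : P) * 1)⁻¹ * 1 ∈ N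
        rw [mul_one, mul_one]
        exact inv_mem n.2), hS1]
    exact QuotientGroup.eq.2 ⟨n⁻¹, by rw [map_inv]; simp only [smul_eq_mul]; group⟩)
  have hTσ : iC σC ∈ T := step _ (by
    have h1 : edgeAdj N σ ((1 : P) : P ⧸ N) (iC σC • ((1 : P) : P ⧸ N)) :=
      ⟨1, rfl, by rw [one_mul]; show _ = ((pr (iC σC) * 1 : P) : P ⧸ N); rw [mul_one, prC]⟩
    have h2 : R (S ((1 : P) : P ⧸ N)) (iC σC • S ((1 : P) : P ⧸ N)) := by
      rw [hS1]
      exact ⟨1, rfl, by rw [one_mul]; show _ = ((iC σC * 1 : E) : E ⧸ Nh); rw [mul_one]⟩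
    exact hR.unique h2 (hSR _ _ h1) (by rw [hequiv, hS, hS]))
  have hTC : ∀ c, iC c ∈ T := by
    have : C ≤ (T.comap iC).map C.subtype := by
      refine H.genC.trans ((Subgroup.closure_le _).2 ?_)
      rintro x (⟨hN, hC⟩ | hx)
      · exact ⟨⟨x, hC⟩, by rw [SetLike.mem_coe, Subgroup.mem_comap, hiag x hC hN]; exact hTN _, rfl⟩
      · rw [Set.mem_singleton_iff] at hx
        subst hx
        exact ⟨σC, hTσ, rfl⟩
    intro c
    obtain ⟨c', hc', e⟩ := this c.2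
    rwa [show c' = c from Subtype.ext e] at hc'
  have hT : ∀ e, e ∈ T := by
    have : (⊤ : Subgroup E) ≤ T := by
      rw [← hgen]
      refine (Subgroup.closure_le _).2 ?_
      rintro _ (⟨n, rfl⟩ | ⟨c, rfl⟩)
      exacts [hTN n, hTC c]
    exact fun e => this (Subgroup.mem_top e)
  have hinj : Function.Injective pr := by
    refine (injective_iff_map_eq_one _).2 fun e he => ?_
    have h1 := hT e ((1 : P) : P ⧸ N)
    rw [show e • ((1 : P) : P ⧸ N) = ((1 : P) : P ⧸ N) by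
      show pr e • ((1 : P) : P ⧸ N) = _
      rw [he, one_smul], hS1] at h1
    have h2 : (e : E ⧸ Nh) = ((1 : E) : E ⧸ Nh) := by
      rw [← h1]
      show _ = ((e * 1 : E) : E ⧸ Nh)
      rw [mul_one]
    obtain ⟨n, hn⟩ := QuotientGroup.eq.1 h2.symm
    rw [inv_one, one_mul] at hn
    have : n = 1 := Subtype.ext (by rw [← prN n, hn, he]; rfl)
    rw [← hn, this, map_one]
  let U : E ≃* P := MulEquiv.ofBijective pr ⟨hinj, prsurj⟩
  refine ⟨((MonoidHom.snd P G).comp E.subtype).comp U.symm.toMonoidHom, fun c => ?_, fun n => ?_⟩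
  · show ((U.symm (c : P) : E) : P × G).2 = fC c
    rw [show U.symm (c : P) = iC c from U.symm_apply_eq.2 rfl]
    rfl
  · show ((U.symm (n : P) : E) : P × G).2 = fN n
    rw [show U.symm (n : P) = iN n from U.symm_apply_eq.2 rfl]
    rfl

end Cfsg.Agent.Co1Amalgam
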