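import Cfsg.Agent.Lib.CoM24.Stab
import Cfsg.Agent.Lib.CoT.Upper

/-!
The centraliser of a hyperplane of the extraspecial subgroup, and the orbits on its involutions.
-/

set_option autoImplicit false
set_option maxRecDepth 20000
set_option linter.unusedSectionVars false
set_option synthInstance.maxSize 4000
set_option synthInstance.maxHeartbeats 400000

namespace Cfsg.Agent.Co1Amalgam

open Cfsg.Agent.CoM24 Cfsg.Agent.CoT Subgroup LargeExtra

local notation "F" => ZMod 2

/-- An element of the singular subspace from its bits. -/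
def vecW (w : Fin 16) : V :=
  sm (bitF w 0) (E 0) + sm (bitF w 1) (E 1) + sm (bitF w 2) (E 2) + sm (bitF w 3) (E 3)

/-- Zero or one transvection. -/
def gvo : Option (Fin 12) → V → V
  | none => fun v => v
  | some t => gv t

/-- A size on the bits which the transvections can decrease. -/
def msr (w : Fin 16) : ℕ :=
  if (w : ℕ) = 0 then 0 else if (w : ℕ).testBit 0 then
    1 + 8 * ((bif (w : ℕ).testBit 1 then 1 else 0) + (bif (w : ℕ).testBit 2 then 1 else 0) +
      (bif (w : ℕ).testBit 3 then 1 else 0))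
  else 100

theorem vecW_down : ∀ w : Fin 16, 2 ≤ (w : ℕ) →
    ∃ (a b : Option (Fin 12)) (w' : Fin 16), (w' : ℕ) ≠ 0 ∧ msr w' < msr w ∧
      gvo a (gvo b (vecW w)) = vecW w' := by
  decide +kernel

theorem vecW_one : vecW 1 = E 0 ∧ vecW 0 = 0 := by decide +kernel

theorem vecW_surj : ∀ c : Fin 4 → F, ∃ w : Fin 16, ∀ k : Fin 4, bitF w k = c k := fun c => by
  obtain ⟨w, h0, h1, h2, h3⟩ := bits4 (c 0) (c 1) (c 2) (c 3)
  exact ⟨w, fun k => by fin_cases k <;> assumption⟩

theorem vecW_eq {d : V} (h : ∀ i, bil d (E i) = 0) : ∃ w : Fin 16, vecW w = d := by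
  obtain ⟨w, hw⟩ := vecW_surj fun i => bil (Fv i) d
  refine ⟨w, ?_⟩
  conv_rhs => rw [dualW d h]
  simp only [vecW]
  rw [show bitF (w : ℕ) 0 = bil (Fv 0) d from hw 0, show bitF (w : ℕ) 1 = bil (Fv 1) d from hw 1,
    show bitF (w : ℕ) 2 = bil (Fv 2) d from hw 2, show bitF (w : ℕ) 3 = bil (Fv 3) d from hw 3]

/-- The singular vectors and the vectors of the singular subspace. -/
theorem card_sing : Nat.card {v : V // q v = 0 ∧ v ≠ 0} = 135 ∧
    Nat.card {v : V // v ≠ 0 ∧ ∀ i, bil v (E i) = 0} = 15 := by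
  constructor <;> rw [Nat.card_eq_fintype_card] <;> decide +kernel

theorem W_sing : ∀ v : V, (∀ i, bil v (E i) = 0) → q v = 0 := by decide +kernel

variable {G : Type*} [Group G] [Finite G] {z : G} {Q : Subgroup G} {π : G → V} {ρ : G → V → V}
  {s g : Fin 4 → G}

theorem inv_sq (S : Su z Q π ρ) {w : G} (hw : w ∈ Q) (h : q (π w) = 0) : w * w = 1 := by
  rw [S.sq w hw, h, zb_zero]

/-- The centraliser of a hyperplane of `Q` in the centraliser of `z`. -/
theorem cent_hyper (S : Su z Q π ρ) {w c : G} (hw : w ∈ Q) (hsq : w * w = 1) (h1 : w ≠ 1)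
    (hz : w ≠ z) (hc : c * z = z * c) (h : ∀ x ∈ Q, x * w = w * x → c * x = x * c) :
    c = 1 ∨ c = z ∨ c = w ∨ c = w * z := by
  set e := π w with he
  have he0 : e ≠ 0 := fun e' => ((S.pi_eq w hw).1 e').elim h1 hz
  have hperp : ∀ v, bil v e = 0 → ρ c v = v := by
    intro v hv
    obtain ⟨x, hx, rfl⟩ := S.pi_surj v
    rw [← S.conj c hc x hx]
    congr 1
    rw [h x hx ((S.comm_iff hx hw).2 hv), mul_inv_cancel_right]
  have key : ∀ v, (∀ x, bil x e = 0 → bil x v = 0) → v = 0 ∨ v = e := by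
    intro v hv
    obtain ⟨y, hy⟩ := exists_bil_one he0
    rw [bil_comm] at hy
    have : v = sm (bil y v) e := eq_of_perp_eq fun x => by
      have h' := hv (x + sm (bil x e) y) (by
        rw [bil_add_left, bil_sm_left, hy, mul_one, F_add_self])
      rw [bil_add_left, bil_sm_left] at h'
      rw [bil_sm_right, mul_comm]
      exact F_eq_of_add _ _ h'
    rcases F_cases (bil y v) with p | p <;> rw [p] at this
    · exact Or.inl (by rwa [sm_zero] at this)
    · exact Or.inr (by rwa [sm_one] at this)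
  obtain ⟨v, hve, hf⟩ := (S.om c hc : IsOm (ρ c)).eq_sg he0 (hperp e (bil_self e)) fun x hx => Or.inl (hperp x hx)
  have hv0 : Eqv e v 0 := by
    have hx' : ∀ x, bil x e = 0 → bil x v = 0 := fun x hx => by
      have h' := hperp x hx
      rw [hf, sg_perp hx, add_eq_left] at h'
      rcases F_cases (bil x v) with p | p
      · exact p
      · rw [p, sm_one] at h'
        exact absurd h' he0
    rcases key v hx' with p | p
    · exact Or.inl p
    · exact Or.inr (by rw [zero_add, p])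
  have hcQ : c ∈ Q := (S.ker c hc).1 fun x => by
    rw [hf, sg_congr (S.sing_of hw hsq) (bil_zero_left e) hv0, sg_zero]
  have hπ := key (π c) fun x hx => by
    obtain ⟨y, hy, rfl⟩ := S.pi_surj x
    rw [bil_comm]
    exact (S.comm_iff hcQ hy).1 (h y hy ((S.comm_iff hy hw).2 hx))
  rcases hπ with p | p
  · rcases (S.pi_eq c hcQ).1 p with e' | e'
    · exact Or.inl e'
    · exact Or.inr (Or.inl e')
  · rcases S.eq_of_pi hcQ hw p with e' | e'
    · exact Or.inr (Or.inr (Or.inl e'))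
    · exact Or.inr (Or.inr (Or.inr e'))

/-- The involutions of `Q` other than `z`. -/
theorem card_invol (S : Su z Q π ρ) :
    Nat.card {w : G // w ∈ Q ∧ w * w = 1 ∧ w ≠ 1 ∧ w ≠ z} = 270 := by
  classical
  choose lf hlf hpl using S.pi_surj
  have hne : ∀ (v : {v : V // q v = 0 ∧ v ≠ 0}) (c : F), lf v * zb z c ≠ 1 ∧ lf v * zb z c ≠ z := by
    intro v c
    have hm : lf v * zb z c ∈ Q := mul_mem (hlf v) (by
      rcases F_cases c with rfl | rfl
      · rw [zb_zero]; exact one_mem _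
      · rw [zb_one]; exact S.loc.mem)
    have hp : π (lf v * zb z c) = v := by
      rcases F_cases c with rfl | rfl
      · rw [zb_zero, mul_one, hpl]
      · rw [zb_one, S.pi_mul _ (hlf v) _ S.loc.mem, hpl, S.pi_z, add_zero]
    exact ⟨fun e => v.2.2 (by rw [← hp, e, S.pi_one]), fun e => v.2.2 (by rw [← hp, e, S.pi_z])⟩
  have hzb : ∀ c : F, zb z c ∈ Q ∧ π (zb z c) = 0 := fun c => by
    rcases F_cases c with rfl | rfl
    · rw [zb_zero]; exact ⟨one_mem _, S.pi_one⟩
    · rw [zb_one]; exact ⟨S.loc.mem, S.pi_z⟩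
  let ι : {v : V // q v = 0 ∧ v ≠ 0} × F → {w : G // w ∈ Q ∧ w * w = 1 ∧ w ≠ 1 ∧ w ≠ z} := fun p =>
    ⟨lf p.1 * zb z p.2, mul_mem (hlf _) (hzb p.2).1, inv_sq S (mul_mem (hlf _) (hzb p.2).1) (by
      rw [S.pi_mul _ (hlf _) _ (hzb p.2).1, hpl, (hzb p.2).2, add_zero]; exact p.1.2.1),
      (hne p.1 p.2).1, (hne p.1 p.2).2⟩
  have hbij : Function.Bijective ι := by
    constructor
    · rintro ⟨v, c⟩ ⟨v', c'⟩ e
      have e' : lf v * zb z c = lf v' * zb z c' := congrArg Subtype.val e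
      have hv : (v : V) = v' := by
        have := congrArg π e'
        rwa [S.pi_mul _ (hlf _) _ (hzb c).1, S.pi_mul _ (hlf _) _ (hzb c').1, hpl, hpl, (hzb c).2,
          (hzb c').2, add_zero, add_zero] at this
      obtain rfl := Subtype.ext hv
      have := mul_left_cancel e'
      rcases F_cases c with rfl | rfl <;> rcases F_cases c' with rfl | rfl <;>
        simp only [zb_zero, zb_one] at this
      · rfl
      · exact absurd this.symm S.loc.ne_one
      · exact absurd this S.loc.ne_one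
      · rfl
    · rintro ⟨w, hw, hsq, h1, hz⟩
      have h0 : π w ≠ 0 := fun e => ((S.pi_eq w hw).1 e).elim h1 hz
      rcases S.eq_of_pi hw (hlf (π w)) (hpl _).symm with e | e
      · exact ⟨(⟨π w, S.sing_of hw hsq, h0⟩, 0), Subtype.ext (by
          show lf (π w) * zb z 0 = w
          rw [zb_zero, mul_one, ← e])⟩
      · exact ⟨(⟨π w, S.sing_of hw hsq, h0⟩, 1), Subtype.ext (by
          show lf (π w) * zb z 1 = w
          rw [zb_one, ← e])⟩
  rw [← Nat.card_congr (Equiv.ofBijective ι hbij), Nat.card_prod, card_sing.1,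
    show Nat.card F = 2 from Nat.card_zmod 2]

/-- The involutions of `Q` in the abelian subgroup other than `z`. -/
theorem card_invol_A (X : Four z Q π ρ s g) :
    Nat.card {w : G // w ∈ Q ∧ w ∈ AA z s ∧ w ≠ 1 ∧ w ≠ z} = 30 := by
  classical
  have S := X.base.su
  choose lf hlf hpl using S.pi_surj
  have hzb : ∀ c : F, zb z c ∈ Q ∧ π (zb z c) = 0 := fun c => X.base.zb_z c
  have hp : ∀ (v : V) (c : F), π (lf v * zb z c) = v := fun v c => by
    rw [S.pi_mul _ (hlf _) _ (hzb c).1, hpl, (hzb c).2, add_zero]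
  let ι : {v : V // v ≠ 0 ∧ ∀ i, bil v (E i) = 0} × F →
      {w : G // w ∈ Q ∧ w ∈ AA z s ∧ w ≠ 1 ∧ w ≠ z} := fun p =>
    ⟨lf p.1 * zb z p.2, mul_mem (hlf _) (hzb p.2).1,
      (X.base.mem_Q (mul_mem (hlf _) (hzb p.2).1)).2 (by rw [hp]; exact p.1.2.2),
      fun e => p.1.2.1 (by rw [← hp p.1 p.2, e, S.pi_one]),
      fun e => p.1.2.1 (by rw [← hp p.1 p.2, e, S.pi_z])⟩
  have hbij : Function.Bijective ι := by
    constructor
    · rintro ⟨v, c⟩ ⟨v', c'⟩ e
      have e' : lf v * zb z c = lf v' * zb z c' := congrArg Subtype.val e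
      have hv : (v : V) = v' := by
        have := congrArg π e'
        rwa [hp, hp] at this
      obtain rfl := Subtype.ext hv
      have := mul_left_cancel e'
      rcases F_cases c with rfl | rfl <;> rcases F_cases c' with rfl | rfl <;>
        simp only [zb_zero, zb_one] at this
      · rfl
      · exact absurd this.symm S.loc.ne_one
      · exact absurd this S.loc.ne_one
      · rfl
    · rintro ⟨w, hw, hA, h1, hz⟩
      have h0 : π w ≠ 0 := fun e => ((S.pi_eq w hw).1 e).elim h1 hz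
      rcases S.eq_of_pi hw (hlf (π w)) (hpl _).symm with e | e
      · exact ⟨(⟨π w, h0, (X.base.mem_Q hw).1 hA⟩, 0), Subtype.ext (by
          show lf (π w) * zb z 0 = w
          rw [zb_zero, mul_one, ← e])⟩
      · exact ⟨(⟨π w, h0, (X.base.mem_Q hw).1 hA⟩, 1), Subtype.ext (by
          show lf (π w) * zb z 1 = w
          rw [zb_one, ← e])⟩
  rw [← Nat.card_congr (Equiv.ofBijective ι hbij), Nat.card_prod, card_sing.2,
    show Nat.card F = 2 from Nat.card_zmod 2]

/-- Two elements of `Q` with the same image differ by an inner automorphism. -/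
theorem adjust (S : Su z Q π ρ) {w w' : G} (hw : w ∈ Q) (hw' : w' ∈ Q) (h0 : π w' ≠ 0)
    (e : π w = π w') : ∃ y ∈ Q, y * w * y⁻¹ = w' := by
  rcases S.eq_of_pi hw hw' e with e' | e'
  · exact ⟨1, one_mem _, by rw [e', one_mul, inv_one, mul_one]⟩
  · obtain ⟨v, hv⟩ := exists_bil_one h0
    obtain ⟨y, hy, rfl⟩ := S.pi_surj v
    refine ⟨y, hy, ?_⟩
    rw [S.conj_Q hy hw, e, bil_comm, hv, zb_one, e', mul_assoc, S.loc.sq, mul_one]

/-- The centraliser is transitive on the involutions of `Q` other than `z`. -/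
theorem trans_Q (S : Su z Q π ρ) {w w' : G} (hw : w ∈ Q) (hw' : w' ∈ Q) (hq : w * w = 1)
    (hq' : w' * w' = 1) (h0 : π w ≠ 0) (h0' : π w' ≠ 0) :
    ∃ c, c * z = z * c ∧ c * w * c⁻¹ = w' := by
  obtain ⟨k, -, hk, -, -, -, hke, -⟩ := to_e0 (S.sing_of hw hq) h0
  obtain ⟨-, l', -, hl', -, -, -, hle'⟩ := to_e0 (S.sing_of hw' hq') h0'
  obtain ⟨c, hc, hρ⟩ := S.lift _ (hl'.comp hk)
  obtain ⟨y, hy, e⟩ := adjust S (S.conj_mem hc hw) hw' h0' (by
    rw [S.conj c hc w hw, hρ]
    show l' (k (π w)) = π w'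
    rw [hke, hle'])
  exact ⟨y * c, S.comm_mul (S.Qz hy) hc, by rw [← e]; group⟩

/-- The stabiliser of the abelian subgroup is transitive on those inside it. -/
theorem trans_A (X : Four z Q π ρ s g) {w w' : G} (hw : w ∈ Q) (hw' : w' ∈ Q)
    (hA : w ∈ AA z s) (hA' : w' ∈ AA z s) (h0 : π w ≠ 0) (h0' : π w' ≠ 0) :
    ∃ c ∈ HH z s, c * w * c⁻¹ = w' := by
  have B := X.base
  have S := X.base.su
  have hgen : ∀ a : Option (Fin 12), ∃ c ∈ HH z s, ρ c = gvo a := by
    rintro (_ | t)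
    · exact ⟨1, one_mem _, funext fun v => S.rho_one v⟩
    · obtain ⟨c, hc, hρ, hn⟩ := B.exists_gen t
      exact ⟨c, B.mem_HH hc hn, hρ⟩
  have reach : ∀ (n : ℕ) (u : Fin 16), msr u ≤ n → (u : ℕ) ≠ 0 →
      ∃ c ∈ HH z s, ρ c (vecW u) = E 0 := by
    intro n
    induction n using Nat.strong_induction_on with
    | _ n ih =>
      intro u hn hu
      rcases (show (u : ℕ) = 1 ∨ 2 ≤ (u : ℕ) by omega) with h1 | h2
      · exact ⟨1, one_mem _, by rw [S.rho_one, show u = 1 from Fin.ext h1, vecW_one.1]⟩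
      · obtain ⟨a, b, u', hu', hlt, e⟩ := vecW_down u h2
        obtain ⟨c, hc, hce⟩ := ih (msr u') (by omega) u' le_rfl hu'
        obtain ⟨ca, hca, hra⟩ := hgen a
        obtain ⟨cb, hcb, hrb⟩ := hgen b
        refine ⟨c * (ca * cb), mul_mem hc (mul_mem hca hcb), ?_⟩
        rw [S.rho_mul (mem_centralizer_one.1 hc.1) (mem_centralizer_one.1 (mul_mem hca hcb).1),
          S.rho_mul (mem_centralizer_one.1 hca.1) (mem_centralizer_one.1 hcb.1), hra, hrb, e, hce]
  have to0 : ∀ {x : G}, x ∈ Q → x ∈ AA z s → π x ≠ 0 → ∃ c ∈ HH z s, ρ c (π x) = E 0 := by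
    intro x hx hxA hx0
    obtain ⟨u, hu⟩ := vecW_eq ((B.mem_Q hx).1 hxA)
    obtain ⟨c, hc, e⟩ := reach _ u le_rfl fun h => hx0 (by
      rw [← hu, show u = 0 from Fin.ext h, vecW_one.2])
    exact ⟨c, hc, hu ▸ e⟩
  obtain ⟨a, ha, ea⟩ := to0 hw hA h0
  obtain ⟨b, hb, eb⟩ := to0 hw' hA' h0'
  have hbz := mem_centralizer_one.1 hb.1
  have hc : b⁻¹ * a ∈ HH z s := mul_mem (inv_mem hb) ha
  have hcz := mem_centralizer_one.1 hc.1
  obtain ⟨y, hy, e⟩ := adjust S (S.conj_mem hcz hw) hw' h0' (by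
    rw [S.conj _ hcz w hw, S.rho_mul (S.comm_inv hbz) (mem_centralizer_one.1 ha.1), ea, ← eb,
      ← S.rho_mul (S.comm_inv hbz) hbz, inv_mul_cancel, S.rho_one])
  refine ⟨y * (b⁻¹ * a), mul_mem (B.mem_HH (S.Qz hy) (B.norm_AA (S.Qz hy) fun i m => by
    rw [S.rho_Q hy, E_bil])) hc, by rw [← e]; group⟩

end Cfsg.Agent.Co1Amalgam
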