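import Cfsg.Agent.Lib.Co1Recog.Amalgam.CSide
import Cfsg.Agent.Lib.Co1Recog.Amalgam.Hyper

/-!
The two sides of the amalgam agree with the centraliser of a second involution of the extraspecial
subgroup.
-/

set_option autoImplicit false
set_option maxRecDepth 20000
set_option synthInstance.maxSize 4000
set_option synthInstance.maxHeartbeats 400000

noncomputable section

namespace Cfsg.Agent.Co1Amalgam

open Cfsg Cfsg.Agent.Leech Cfsg.Agent.CoM24 Cfsg.Agent.CoT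
open Subgroup LargeExtra

/-- The index of a stabiliser is the size of the orbit. -/
theorem index_eq_orbit {L α : Type*} [Group L] (Y : Subgroup L) (act : L → α)
    (hfib : ∀ a b, act a = act b ↔ a⁻¹ * b ∈ Y) (hsurj : Function.Surjective act) :
    Y.index = Nat.card α := by
  refine Nat.card_congr (Equiv.ofBijective (Quotient.lift act fun a b h => (hfib a b).2
    (QuotientGroup.leftRel_apply.1 h)) ⟨?_, fun x => ?_⟩)
  · rintro ⟨a⟩ ⟨b⟩ h
    exact Quotient.sound (QuotientGroup.leftRel_apply.2 ((hfib a b).1 h))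
  · obtain ⟨a, rfl⟩ := hsurj x
    exact ⟨⟦a⟧, rfl⟩

/-- The monomial part of the centraliser in the quotient. -/
abbrev B1 : Subgroup ↥E8Cent.C1 := N1.subgroupOf E8Cent.C1

theorem B1_eq : B1 = Bc.map E8Cent.phiC := by
  ext x
  constructor
  · intro hx
    obtain ⟨m, hm, e⟩ := (hx : (x : Spor.Co1) ∈ N1)
    have hmc : m ∈ E8Cent.Cc := E8Cent.preimage_C1.1 (e ▸ x.2)
    exact ⟨⟨m, hmc⟩, hm, Subtype.ext e⟩
  · rintro ⟨m, hm, rfl⟩
    exact ⟨(m : Co0), hm, rfl⟩

theorem Q1_le_B1 : E8Cent.Q1 ≤ B1 := by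
  rw [B1_eq]
  exact map_mono fun y hy => ker_le_crossStab ⟨y, hy⟩

variable {G : Type*} [Group G] [Finite G] {z : G} {Q : Subgroup G} {π : G → V}
  {ρ : G → V → V} {s g : Fin 4 → G}

theorem index_B1 (X : Four z Q π ρ s g) : B1.index = 135 := by
  obtain ⟨f, hf⟩ := exists_nside X
  rw [B1_eq, index_map_eq _ E8Cent.phiC_surj, index_Bc X hf]
  intro a ha
  have := MonoidHom.mem_ker.1 ha
  rw [← map_one E8Cent.phiC] at this
  rcases E8Cent.phiC_eq.1 this.symm with e | e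
  · rw [e]; exact one_mem _
  · rw [e, one_mul]; exact mono_mem _

/-- **The centraliser side at a second octad.** -/
theorem edge_compat (X : Four z Q π ρ s g) {fC : ↥E8Cent.C1 →* G} {fN : ↥N1 →* G}
    (hCi : Function.Injective fC) (hNi : Function.Injective fN)
    (hCr : fC.range = centralizer ({z} : Set G)) (hNr : fN.range = normalizer (AA z s : Set G))
    (hCz : fC ⟨E8Cent.z1, mem_centralizer_singleton_iff.2 rfl⟩ = z)
    (hCQ : E8Cent.Q1.map fC = Q)
    (hag : ∀ (x : Spor.Co1) (hC : x ∈ E8Cent.C1) (hN : x ∈ N1), fC ⟨x, hC⟩ = fN ⟨x, hN⟩)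
    (τ : ↥N1) {x : ↥E8Cent.C1} (hx : (x : Spor.Co1) = τ * E8Cent.z1 * (τ : Spor.Co1)⁻¹)
    (hxQ : x ∈ E8Cent.Q1) (hne : (x : Spor.Co1) ≠ E8Cent.z1)
    (y : ↥E8Cent.C1) (hy : y * x = x * y)
    (h' : (τ : Spor.Co1)⁻¹ * y * τ ∈ E8Cent.C1) :
    fC y = fN τ * fC ⟨(τ : Spor.Co1)⁻¹ * y * τ, h'⟩ * (fN τ)⁻¹ := by
  classical
  have S := X.base.su
  set o : ↥E8Cent.C1 := ⟨E8Cent.z1, mem_centralizer_singleton_iff.2 rfl⟩ with ho
  have hzN : E8Cent.z1 ∈ N1 := ⟨E8Cent.t0, mono_mem _, rfl⟩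
  set w := fC x with hw
  have hwQ : w ∈ Q := hCQ ▸ ⟨x, hxQ, rfl⟩
  have hxN : (x : Spor.Co1) ∈ N1 := Q1_le_B1 hxQ
  have hwτ : w = fN τ * z * (fN τ)⁻¹ := by
    rw [hw, show x = ⟨(x : Spor.Co1), x.2⟩ from rfl, hag _ _ hxN, ← hCz, hag _ _ hzN, ← map_inv,
      ← map_mul, ← map_mul]
    congr 1
    exact Subtype.ext hx
  have hwsq : w * w = 1 := by
    rw [hwτ, conj_mul, S.loc.sq, mul_one, mul_inv_cancel]
  have hw1 : w ≠ 1 := fun e => S.loc.ne_one (conj_eq_one_iff.1 (hwτ.symm.trans e))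
  have hwz : w ≠ z := fun e => hne (congrArg Subtype.val (hCi (e.trans hCz.symm) : x = o))
  have hw0 : π w ≠ 0 := fun e => ((S.pi_eq w hwQ).1 e).elim hw1 hwz
  -- the subgroup fixing the second involution
  set Y : Subgroup ↥E8Cent.C1 := centralizer ({x} : Set ↥E8Cent.C1) with hY
  have hmemY : ∀ {a : ↥E8Cent.C1}, a ∈ Y ↔ a * x = x * a := mem_centralizer_singleton_iff
  have hconj : ∀ a : Y, (τ : Spor.Co1)⁻¹ * ((a : ↥E8Cent.C1) : Spor.Co1) * τ ∈ E8Cent.C1 := by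
    intro a
    rw [mem_centralizer_singleton_iff]
    have e : ((a : ↥E8Cent.C1) : Spor.Co1) * x = x * (a : ↥E8Cent.C1) := congrArg Subtype.val (hmemY.1 a.2)
    rw [hx] at e
    calc (τ : Spor.Co1)⁻¹ * (a : ↥E8Cent.C1) * τ * E8Cent.z1
        = (τ : Spor.Co1)⁻¹ * ((a : ↥E8Cent.C1) * (τ * E8Cent.z1 * (τ : Spor.Co1)⁻¹)) * τ := by group
      _ = (τ : Spor.Co1)⁻¹ * ((τ * E8Cent.z1 * (τ : Spor.Co1)⁻¹) * (a : ↥E8Cent.C1)) * τ := by rw [e]
      _ = E8Cent.z1 * ((τ : Spor.Co1)⁻¹ * (a : ↥E8Cent.C1) * τ) := by group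
  let cj : Y →* ↥E8Cent.C1 := MonoidHom.mk' (fun a => ⟨_, hconj a⟩) fun a b => Subtype.ext (by
    show (τ : Spor.Co1)⁻¹ * (((a : ↥E8Cent.C1) : Spor.Co1) * (b : ↥E8Cent.C1)) * τ = _
    simp only [Subgroup.coe_mul]
    group)
  let θ : Y →* G := (MulAut.conj (fN τ)).toMonoidHom.comp (fC.comp cj)
  have hθ : ∀ a, θ a = fN τ * fC (cj a) * (fN τ)⁻¹ := fun a => rfl
  have hagree : ∀ a : Y, (a : ↥E8Cent.C1) ∈ B1 → θ a = fC a := by
    intro a ha
    have hN : (τ : Spor.Co1)⁻¹ * ((a : ↥E8Cent.C1) : Spor.Co1) * τ ∈ N1 :=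
      mul_mem (mul_mem (inv_mem τ.2) ha) τ.2
    rw [hθ, show fC (cj a) = fN ⟨_, hN⟩ from hag _ _ hN,
      show fC (a : ↥E8Cent.C1) = fN ⟨_, ha⟩ from hag _ _ ha, ← map_inv, ← map_mul, ← map_mul]
    congr 1
    refine Subtype.ext ?_
    simp only [Subgroup.coe_mul, Subgroup.coe_inv]
    group
    rfl
  have hoY : o ∈ Y := by
    rw [hmemY]
    exact Subtype.ext (mem_centralizer_singleton_iff.1 x.2).symm
  have hcomm : ∀ (a : Y), θ a * z = z * θ a := by
    intro a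
    rw [← hCz, ← hagree ⟨o, hoY⟩ hzN, ← map_mul, ← map_mul]
    congr 1
    exact Subtype.ext (Subtype.ext (mem_centralizer_singleton_iff.1 (a : ↥E8Cent.C1).2))
  have haz : ∀ (a : ↥E8Cent.C1), fC a * z = z * fC a := fun a => by
    rw [← hCz, ← map_mul, ← map_mul]
    congr 1
    exact Subtype.ext (mem_centralizer_singleton_iff.1 a.2)
  have haw : ∀ (a : Y), fC a * w = w * fC a := fun a => by
    rw [hw, ← map_mul, ← map_mul, hmemY.1 a.2]
  let d : Y → G := fun a => (fC a)⁻¹ * θ a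
  have hd : ∀ a, d a = 1 ∨ d a = z ∨ d a = w ∨ d a = w * z := by
    intro a
    refine cent_hyper S hwQ hwsq hw1 hwz (S.comm_mul (S.comm_inv (haz _)) (hcomm a)) fun q hq hqw => ?_
    rw [← hCQ] at hq
    obtain ⟨u, hu, rfl⟩ := hq
    have huY : u ∈ Y := hmemY.2 (hCi (by rw [map_mul, map_mul]; exact hqw))
    have hv : (a : ↥E8Cent.C1) * u * (a : ↥E8Cent.C1)⁻¹ ∈ E8Cent.Q1 := E8Cent.Q1_normal.conj_mem u hu _
    have e1 : θ a * fC u * (θ a)⁻¹ = fC a * fC u * (fC a)⁻¹ := by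
      have hA := hagree ⟨u, huY⟩ (Q1_le_B1 hu)
      have hB := hagree (a * ⟨u, huY⟩ * a⁻¹) (Q1_le_B1 hv)
      rw [map_mul, map_mul, map_inv, hA] at hB
      rw [hB, ← map_inv, ← map_mul, ← map_mul]
      rfl
    calc d a * fC u = (fC a)⁻¹ * (θ a * fC u * (θ a)⁻¹) * θ a := by simp only [d]; group
      _ = fC u * d a := by rw [e1]; simp only [d]; group
  have hwC : w * z = z * w := S.Qz hwQ
  have hdc : ∀ a (b : Y), d a * fC b = fC b * d a := by
    intro a b
    rcases hd a with e | e | e | e <;> rw [e]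
    · rw [one_mul, mul_one]
    · exact (haz _).symm
    · exact (haw b).symm
    · exact ((show Commute (fC b) w from haw b).mul_right (haz _)).symm.eq
  let D : Y →* G := MonoidHom.mk' d fun a b => by
    show (fC ((a : ↥E8Cent.C1) * b))⁻¹ * θ (a * b) = d a * d b
    rw [map_mul, map_mul, mul_inv_rev]
    calc (fC b)⁻¹ * (fC a)⁻¹ * (θ a * θ b) = (fC b)⁻¹ * (d a * fC b) * d b := by simp only [d]; group
      _ = d a * d b := by rw [hdc, inv_mul_cancel_left]
  -- the index is odd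
  set R : Subgroup Y := B1.subgroupOf Y with hR
  have hRker : R ≤ D.ker := fun a ha => by
    show (fC a)⁻¹ * θ a = 1
    rw [hagree a ha, inv_mul_cancel]
  have hmemQ : ∀ c : ↥E8Cent.C1, fC (c * x * c⁻¹) ∈ Q := fun c =>
    hCQ ▸ ⟨_, E8Cent.Q1_normal.conj_mem x hxQ c, rfl⟩
  have hfib : ∀ a b : ↥E8Cent.C1, fC (a * x * a⁻¹) = fC (b * x * b⁻¹) ↔ a⁻¹ * b ∈ Y := fun a b => by
    rw [hCi.eq_iff, hmemY]
    constructor
    · intro e
      calc a⁻¹ * b * x = a⁻¹ * (b * x * b⁻¹) * b := by group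
        _ = x * (a⁻¹ * b) := by rw [← e]; group
    · intro e
      calc a * x * a⁻¹ = a * (x * (a⁻¹ * b)) * b⁻¹ := by group
        _ = b * x * b⁻¹ := by rw [← e]; group
  have hYi : Y.index = 270 := by
    rw [← card_invol S]
    refine index_eq_orbit Y (fun c => ⟨fC (c * x * c⁻¹), hmemQ c, ?_, ?_, ?_⟩) (fun a b => ?_) ?_
    · rw [map_mul, map_mul, map_inv, conj_mul, hwsq, mul_one, mul_inv_cancel]
    · rw [map_mul, map_mul, map_inv]
      exact fun e => hw1 (conj_eq_one_iff.1 e)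
    · rw [map_mul, map_mul, map_inv]
      intro e
      refine hwz ?_
      have h2 : fC c * z * (fC c)⁻¹ = z := mul_inv_eq_iff_eq_mul.2 (haz c)
      exact mul_left_cancel (mul_right_cancel (e.trans h2.symm))
    · rw [Subtype.mk.injEq]; exact hfib a b
    · rintro ⟨v, hv, hv2, hv1, hvz⟩
      obtain ⟨c, hc, e⟩ := trans_Q S hwQ hv hwsq hv2 hw0
        (fun e => ((S.pi_eq v hv).1 e).elim hv1 hvz)
      obtain ⟨c', rfl⟩ := hCr.ge (mem_centralizer_one.2 hc : c ∈ centralizer ({z} : Set G))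
      exact ⟨c', Subtype.ext (by simp only [map_mul, map_inv]; exact e)⟩
  have hBY : (Y.subgroupOf B1).index = 30 := by
    have hwA : ∀ c : B1, fC ((c : ↥E8Cent.C1) * x * (c : ↥E8Cent.C1)⁻¹) ∈ AA z s := by
      intro c
      have hcN : ((c : ↥E8Cent.C1) : Spor.Co1) ∈ N1 := c.2
      have hh : fN (⟨_, hcN⟩ * τ) ∈ normalizer (AA z s : Set G) := hNr ▸ ⟨_, rfl⟩
      have := (mem_normalizer_iff.1 hh z).1 X.base.z_mem
      rw [map_mul, map_mul, map_inv, show fC (c : ↥E8Cent.C1) = fN ⟨_, hcN⟩ from hag _ _ hcN]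
      rw [map_mul, mul_inv_rev] at this
      rw [show fC x = w from rfl, hwτ]
      simpa only [mul_assoc] using this
    rw [← card_invol_A X]
    refine index_eq_orbit (Y.subgroupOf B1) (fun c => ⟨fC ((c : ↥E8Cent.C1) * x * (c : ↥E8Cent.C1)⁻¹),
      hmemQ c, hwA c, ?_, ?_⟩) (fun a b => ?_) ?_
    · rw [map_mul, map_mul, map_inv]
      exact fun e => hw1 (conj_eq_one_iff.1 e)
    · rw [map_mul, map_mul, map_inv]
      intro e
      refine hwz ?_
      have h2 : fC c * z * (fC (c : ↥E8Cent.C1))⁻¹ = z := mul_inv_eq_iff_eq_mul.2 (haz _)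
      exact mul_left_cancel (mul_right_cancel (e.trans h2.symm))
    · rw [Subtype.mk.injEq]; exact hfib _ _
    · rintro ⟨v, hv, hvA, hv1, hvz⟩
      obtain ⟨c, hc, e⟩ := trans_A X hwQ hv (by simpa using hwA 1) hvA hw0
        (fun e => ((S.pi_eq v hv).1 e).elim hv1 hvz)
      obtain ⟨m, hm⟩ := hNr.ge hc.2
      obtain ⟨c', hc'⟩ := hCr.ge hc.1
      have hcm : (c' : Spor.Co1) = m := by
        have hmC : (m : Spor.Co1) ∈ E8Cent.C1 := by
          rw [mem_centralizer_singleton_iff]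
          have : m * ⟨E8Cent.z1, hzN⟩ = ⟨E8Cent.z1, hzN⟩ * m := hNi (by
            rw [map_mul, map_mul, ← hag E8Cent.z1 o.2 hzN, hm, hCz]
            exact mem_centralizer_one.1 hc.1)
          exact congrArg Subtype.val this
        exact congrArg Subtype.val
          (hCi (hc'.trans (hm.symm.trans (hag _ hmC m.2).symm)) : c' = ⟨_, hmC⟩)
      refine ⟨⟨c', show (c' : Spor.Co1) ∈ N1 from hcm ▸ m.2⟩, Subtype.ext ?_⟩
      simp only [map_mul, map_inv, hc']
      exact e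
  have hn : R.index = 15 := by
    have h1 : R.index * Y.index = (B1 ⊓ Y).index := by
      rw [show R.index = (B1 ⊓ Y).relIndex Y by rw [inf_relIndex_right]; rfl]
      exact relIndex_mul_index inf_le_right
    have h2 : (Y.subgroupOf B1).index * B1.index = (B1 ⊓ Y).index := by
      rw [show (Y.subgroupOf B1).index = (Y ⊓ B1).relIndex B1 by rw [inf_relIndex_right]; rfl,
        inf_comm B1 Y]
      exact relIndex_mul_index inf_le_right
    rw [hYi, ← h2, hBY, index_B1 X] at h1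
    omega
  have hrange : D.range = ⊥ := by
    haveI : Fact (Nat.Prime 2) := ⟨Nat.prime_two⟩
    have h2 : IsPGroup 2 D.range := by
      rintro ⟨_, a, rfl⟩
      refine ⟨1, Subtype.ext ?_⟩
      show d a ^ (2 ^ 1) = 1
      rw [pow_one, pow_two]
      rcases hd a with e | e | e | e <;> rw [e]
      · rw [one_mul]
      · exact S.loc.sq
      · exact hwsq
      · rw [mul_assoc, ← mul_assoc z, ← hwC, mul_assoc w, S.loc.sq, mul_one, hwsq]
    obtain ⟨k, hk⟩ := IsPGroup.iff_card.1 h2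
    have hdvd : Nat.card D.range ∣ 15 := by
      rw [← index_ker, ← hn]
      exact index_dvd_of_le hRker
    rw [hk] at hdvd
    have hk0 : k = 0 := by
      by_contra h0
      exact absurd ((dvd_pow_self 2 h0).trans hdvd) (by norm_num)
    exact eq_bot_of_card_eq _ (by rw [hk, hk0, pow_zero])
  have hy' : y ∈ Y := hmemY.2 hy
  have : D ⟨y, hy'⟩ = 1 := by
    have h1 : D ⟨y, hy'⟩ ∈ D.range := ⟨_, rfl⟩
    rw [hrange] at h1
    exact mem_bot.1 h1
  exact inv_mul_eq_one.1 this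

end Cfsg.Agent.Co1Amalgam
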