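import Cfsg.Agent.Lib.Co1Recog.Amalgam.CSide

/-!
The relation on the stabiliser of an edge.
-/

set_option autoImplicit false
set_option maxRecDepth 20000
set_option synthInstance.maxSize 4000
set_option synthInstance.maxHeartbeats 400000

noncomputable section

namespace Cfsg.Agent.Co1Amalgam

open Cfsg Subgroup

variable {G : Type*} [Group G]

/-- The stabiliser of the edge from the standard cross to its image under `σ`. -/
abbrev edgeStab (σ : Spor.Co1) : Subgroup Spor.Co1 := N1 ⊓ N1.map (MulAut.conj σ).toMonoidHom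

theorem mem_edgeStab {σ k : Spor.Co1} (h : k ∈ edgeStab σ) : σ⁻¹ * k * σ ∈ N1 := by
  obtain ⟨-, m, hm, rfl⟩ := h
  show σ⁻¹ * (σ * m * σ⁻¹) * σ ∈ N1
  rw [show σ⁻¹ * (σ * m * σ⁻¹) * σ = m by group]
  exact hm

/-- **The edge relation**: it holds where the two centralisers reach. -/
theorem edge_rel {fC : ↥E8Cent.C1 →* G} {fN : ↥N1 →* G}
    (hag : ∀ (x : Spor.Co1) (hC : x ∈ E8Cent.C1) (hN : x ∈ N1), fC ⟨x, hC⟩ = fN ⟨x, hN⟩)
    (hcompat : ∀ (τ : ↥N1) (x : ↥E8Cent.C1), (x : Spor.Co1) = τ * E8Cent.z1 * (τ : Spor.Co1)⁻¹ →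
      x ∈ E8Cent.Q1 → (x : Spor.Co1) ≠ E8Cent.z1 → ∀ y : ↥E8Cent.C1, y * x = x * y →
      ∀ h' : (τ : Spor.Co1)⁻¹ * y * τ ∈ E8Cent.C1,
        fC y = fN τ * fC ⟨(τ : Spor.Co1)⁻¹ * y * τ, h'⟩ * (fN τ)⁻¹)
    (σ : ↥E8Cent.C1) (τ : ↥N1) (x : ↥E8Cent.C1)
    (hx : (x : Spor.Co1) = τ * E8Cent.z1 * (τ : Spor.Co1)⁻¹) (hxQ : x ∈ E8Cent.Q1)
    (hne : (x : Spor.Co1) ≠ E8Cent.z1) (hσ : σ * x = x * σ)
    (hgen : edgeStab σ ≤ Subgroup.closure {k | k ∈ edgeStab (σ : Spor.Co1) ∧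
      (k ∈ E8Cent.C1 ∨ k * x = x * k)})
    (k : Spor.Co1) (hk : k ∈ edgeStab σ) :
    fN ⟨k, hk.1⟩ = fC σ * fN ⟨(σ : Spor.Co1)⁻¹ * k * σ, mem_edgeStab hk⟩ * (fC σ)⁻¹ := by
  have hC1 : ∀ {a : Spor.Co1}, a ∈ E8Cent.C1 ↔ a * E8Cent.z1 = E8Cent.z1 * a :=
    mem_centralizer_singleton_iff
  have key : ∀ a : Spor.Co1, a * x = x * a → (τ : Spor.Co1)⁻¹ * a * τ ∈ E8Cent.C1 := by
    intro a ha
    rw [hC1]
    rw [hx] at ha
    calc (τ : Spor.Co1)⁻¹ * a * τ * E8Cent.z1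
        = (τ : Spor.Co1)⁻¹ * (a * (τ * E8Cent.z1 * (τ : Spor.Co1)⁻¹)) * τ := by group
      _ = (τ : Spor.Co1)⁻¹ * ((τ * E8Cent.z1 * (τ : Spor.Co1)⁻¹) * a) * τ := by rw [ha]
      _ = E8Cent.z1 * ((τ : Spor.Co1)⁻¹ * a * τ) := by group
  let ψ : ↥(edgeStab (σ : Spor.Co1)) →* G :=
    (MulAut.conj (fC σ)).toMonoidHom.comp (fN.comp
      ((MulAut.conj (σ : Spor.Co1)⁻¹).toMonoidHom.comp (edgeStab (σ : Spor.Co1)).subtype |>.codRestrict N1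
        fun a => by
          show (σ : Spor.Co1)⁻¹ * a * (σ : Spor.Co1)⁻¹⁻¹ ∈ N1
          rw [inv_inv]; exact mem_edgeStab a.2))
  let ι : ↥(edgeStab (σ : Spor.Co1)) →* G := fN.comp (Subgroup.inclusion inf_le_left)
  have hψ : ∀ a : ↥(edgeStab (σ : Spor.Co1)), ψ a =
      fC σ * fN ⟨(σ : Spor.Co1)⁻¹ * a * σ, mem_edgeStab a.2⟩ * (fC σ)⁻¹ := by
    intro a
    show fC σ * fN _ * (fC σ)⁻¹ = _
    congr 3
    exact Subtype.ext (congrArg (fun u => (σ : Spor.Co1)⁻¹ * (a : Spor.Co1) * u) (inv_inv _))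
  have hbase : ∀ a : ↥(edgeStab (σ : Spor.Co1)),
      ((a : Spor.Co1) ∈ E8Cent.C1 ∨ (a : Spor.Co1) * x = x * a) → ι a = ψ a := by
    intro a ha
    have hs : (σ : Spor.Co1)⁻¹ * a * σ ∈ N1 := mem_edgeStab a.2
    rw [hψ]
    show fN ⟨(a : Spor.Co1), _⟩ = _
    rcases ha with ha | ha
    · have hsC : (σ : Spor.Co1)⁻¹ * a * σ ∈ E8Cent.C1 := mul_mem (mul_mem (inv_mem σ.2) ha) σ.2
      rw [← hag _ ha a.2.1, ← hag _ hsC hs, ← map_inv, ← map_mul, ← map_mul]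
      congr 1
      refine Subtype.ext ?_
      simp only [Subgroup.coe_mul, Subgroup.coe_inv]
      group
    · have hσ' : (σ : Spor.Co1) * x = x * σ := congrArg Subtype.val hσ
      have hb : (σ : Spor.Co1)⁻¹ * a * σ * x = x * ((σ : Spor.Co1)⁻¹ * a * σ) :=
        (((show Commute (σ : Spor.Co1) x from hσ').inv_left.mul_left ha).mul_left hσ').eq
      have hN : ∀ (b : Spor.Co1) (hb : b ∈ N1) (hbx : b * x = x * b),
          fN ⟨b, hb⟩ = fN τ * fC ⟨(τ : Spor.Co1)⁻¹ * b * τ, key b hbx⟩ * (fN τ)⁻¹ := by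
        intro b hb hbx
        rw [hag _ _ (mul_mem (mul_mem (inv_mem τ.2) hb) τ.2), ← map_inv, ← map_mul, ← map_mul]
        congr 1
        refine Subtype.ext ?_
        simp only [Subgroup.coe_mul, Subgroup.coe_inv]
        group
      rw [hN _ a.2.1 ha, hN _ hs hb, hcompat τ x hx hxQ hne σ hσ (key _ hσ')]
      simp only [mul_inv_rev, inv_inv, mul_assoc, inv_mul_cancel_left]
      rw [← map_inv fC, ← mul_assoc (fC _) (fC _), ← mul_assoc (fC _ * fC _) (fC _), ← map_mul, ← map_mul]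
      congr 2
      congr 1
      refine Subtype.ext ?_
      simp only [Subgroup.coe_mul, Subgroup.coe_inv]
      group
  suffices h : ι ⟨k, hk⟩ = ψ ⟨k, hk⟩ by rw [hψ] at h; exact h
  have hmap : edgeStab (σ : Spor.Co1) ≤ (MonoidHom.eqLocus ι ψ).map (edgeStab (σ : Spor.Co1)).subtype :=
    hgen.trans ((closure_le _).2 fun a ha => ⟨⟨a, ha.1⟩, hbase ⟨a, ha.1⟩ ha.2, rfl⟩)
  obtain ⟨a, ha, hak⟩ := hmap hk
  rw [show a = ⟨k, hk⟩ from Subtype.ext hak] at ha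
  exact ha

end Cfsg.Agent.Co1Amalgam
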