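import Cfsg.Agent.Lib.Co1Recog.Amalgam.Triangles

/-!
The first Conway group under the large extraspecial hypothesis, from the layers of the graph of the
sextet involution and the surjectivity of the embedding.
-/

set_option autoImplicit false
set_option maxRecDepth 20000
set_option synthInstance.maxSize 4000
set_option synthInstance.maxHeartbeats 400000

namespace Cfsg.Agent.Co1Amalgam

open Cfsg Subgroup

/-- Recognition, up to the layers of the graph and the endgame. -/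
theorem isoCo1_of
    (hlay : ∃ (d : Spor.Co1 ⧸ N1 → ℕ) (B : ℕ),
      Co1Mult.Layered (edgeAdj N1 sigma1) d ((1 : Spor.Co1) : Spor.Co1 ⧸ N1) B)
    {G : Type*} [Group G] [Finite G]
    (z : G) (hz : orderOf z = 2) (Q : Subgroup (Subgroup.centralizer ({z} : Set G))) [Q.Normal]
    (hF : Cfsg.generalizedFittingSubgroup (Subgroup.centralizer ({z} : Set G)) = Q)
    (hQ : Cfsg.IsExtraspecial 2 Q) (hcard : Nat.card Q = 2 ^ 9)
    (e : (Subgroup.centralizer ({z} : Set G)) ⧸ Q ≃*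
      Cfsg.Omega (ZMod 2) (Cfsg.quadFormPlus 4 (ZMod 2)))
    (hnwc : ∃ g : G, (∃ hq : g * z * g⁻¹ ∈ Subgroup.centralizer ({z} : Set G),
      (⟨g * z * g⁻¹, hq⟩ : Subgroup.centralizer ({z} : Set G)) ∈ Q) ∧ g * z * g⁻¹ ≠ z)
    (endgame : ∀ φ : Spor.Co1 →* G, Function.Injective φ →
      (∀ g, g * φ E8Cent.z1 = φ E8Cent.z1 * g → g ∈ φ.range) →
      (∃ a b c : G, orderOf a = 2 ∧ orderOf b = 2 ∧ orderOf c = 2 ∧ ¬ IsConj a b ∧ ¬ IsConj a c ∧
        ¬ IsConj b c ∧ ∀ x : G, orderOf x = 2 → IsConj x a ∨ IsConj x b ∨ IsConj x c) →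
      (∀ x : G, x * x = 1 → ∃ g : G, g * x * g⁻¹ * φ E8Cent.z1 = φ E8Cent.z1 * (g * x * g⁻¹)) →
      Function.Surjective φ) :
    Spor.IsoCo1 G := by
  obtain ⟨φ, hinj, -, hC, h3, hmeet⟩ :=
    exists_phi (edgeData tri_block hlay) z hz Q hF hQ hcard e hnwc
  exact ⟨(MulEquiv.ofBijective φ ⟨hinj, endgame φ hinj hC h3 hmeet⟩).symm⟩

end Cfsg.Agent.Co1Amalgam
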