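import Cfsg.Agent.Lib.Co1Recog.Amalgam.Edge
import Cfsg.Agent.Lib.CoT.Classes
import Cfsg.Agent.Lib.CoT.Wrap
import Cfsg.Agent.Lib.Leech.Co1

/-!
The amalgam from the standard hypotheses, and what a map of the whole group extending it satisfies.
-/

set_option autoImplicit false
set_option maxRecDepth 20000
set_option synthInstance.maxSize 4000
set_option synthInstance.maxHeartbeats 400000

namespace Cfsg.Agent.Co1Amalgam

open Cfsg Subgroup LargeExtra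

variable {G : Type*} [Group G]

/-- The two sides of the amalgam and the facts about involutions, from the standard hypotheses. -/
theorem exists_amalgam [Finite G] (z : G) (hz : orderOf z = 2)
    (Q : Subgroup (Subgroup.centralizer ({z} : Set G))) [Q.Normal]
    (hF : Cfsg.generalizedFittingSubgroup (Subgroup.centralizer ({z} : Set G)) = Q)
    (hQ : Cfsg.IsExtraspecial 2 Q) (hcard : Nat.card Q = 2 ^ 9)
    (e : (Subgroup.centralizer ({z} : Set G)) ⧸ Q ≃*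
      Cfsg.Omega (ZMod 2) (Cfsg.quadFormPlus 4 (ZMod 2)))
    (hnwc : ∃ g : G, (∃ hq : g * z * g⁻¹ ∈ Subgroup.centralizer ({z} : Set G),
      (⟨g * z * g⁻¹, hq⟩ : Subgroup.centralizer ({z} : Set G)) ∈ Q) ∧ g * z * g⁻¹ ≠ z) :
    ∃ (fC : ↥E8Cent.C1 →* G) (fN : ↥N1 →* G), Function.Injective fC ∧ Function.Injective fN ∧
      fC.range = centralizer ({z} : Set G) ∧
      fC ⟨E8Cent.z1, mem_centralizer_singleton_iff.2 rfl⟩ = z ∧
      (∀ (x : Spor.Co1) (hC : x ∈ E8Cent.C1) (hN : x ∈ N1), fC ⟨x, hC⟩ = fN ⟨x, hN⟩) ∧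
      (∀ (τ : ↥N1) (x : ↥E8Cent.C1), (x : Spor.Co1) = τ * E8Cent.z1 * (τ : Spor.Co1)⁻¹ →
        x ∈ E8Cent.Q1 → (x : Spor.Co1) ≠ E8Cent.z1 → ∀ y : ↥E8Cent.C1, y * x = x * y →
        ∀ h' : (τ : Spor.Co1)⁻¹ * y * τ ∈ E8Cent.C1,
          fC y = fN τ * fC ⟨(τ : Spor.Co1)⁻¹ * y * τ, h'⟩ * (fN τ)⁻¹) ∧
      (∃ a b c : G, orderOf a = 2 ∧ orderOf b = 2 ∧ orderOf c = 2 ∧ ¬ IsConj a b ∧ ¬ IsConj a c ∧
        ¬ IsConj b c ∧ ∀ x : G, orderOf x = 2 → IsConj x a ∨ IsConj x b ∨ IsConj x c) ∧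
      ∀ x : G, x * x = 1 → ∃ g : G, g * x * g⁻¹ * z = z * (g * x * g⁻¹) := by
  obtain ⟨π, ρ, S⟩ := CoT.exists_su hz Q hF hQ hcard e
  obtain ⟨g₀, ⟨hq, hmem⟩, hne⟩ := hnwc
  obtain ⟨s₀, g', X⟩ := CoT.exists_frame S ⟨g₀, ⟨_, hmem, rfl⟩, hne⟩
  obtain ⟨π', ρ', s, g, X4⟩ := CoM24.exists_four X
  obtain ⟨fC, fN, hCi, hNi, hCr, hNr, hCz, hCQ, hag⟩ := amalgam X4
  exact ⟨fC, fN, hCi, hNi, hCr, hCz, hag,
    fun τ x hx hxQ hne y hy h' => edge_compat X4 hCi hNi hCr hNr hCz hCQ hag τ hx hxQ hne y hy h',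
    X.three_classes, S.center_sylow⟩

/-- A map of the whole group which extends the centraliser side. -/
theorem extension_facts [Finite G] {z : G} {fC : ↥E8Cent.C1 →* G} (hz : z ≠ 1)
    (hCr : fC.range = centralizer ({z} : Set G))
    (hCz : fC ⟨E8Cent.z1, mem_centralizer_singleton_iff.2 rfl⟩ = z)
    (φ : Spor.Co1 →* G) (hφ : ∀ x : ↥E8Cent.C1, φ x = fC x) :
    Function.Injective φ ∧ φ E8Cent.z1 = z ∧
      ∀ g, g * φ E8Cent.z1 = φ E8Cent.z1 * g → g ∈ φ.range := by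
  have h1 : φ E8Cent.z1 = z := by
    rw [← hCz]; exact hφ ⟨E8Cent.z1, mem_centralizer_singleton_iff.2 rfl⟩
  refine ⟨?_, h1, fun g hg => ?_⟩
  · haveI : IsSimpleGroup (Co0 ⧸ Subgroup.center Co0) := Leech.isCo1.1
    rw [← MonoidHom.ker_eq_bot_iff]
    rcases φ.normal_ker.eq_bot_or_eq_top with e | e
    · exact e
    · refine absurd ?_ hz
      rw [← h1]
      exact MonoidHom.mem_ker.1 (e ▸ mem_top _)
  · rw [h1] at hg
    obtain ⟨x, hx⟩ := hCr.ge (mem_centralizer_one.2 hg : g ∈ centralizer ({z} : Set G))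
    exact ⟨x, (hφ x).trans hx⟩

end Cfsg.Agent.Co1Amalgam
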