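import Cfsg.Agent.Lib.Co1Recog.Amalgam.Completion
import Cfsg.Agent.Lib.Co1Recog.Amalgam.EdgeRel
import Cfsg.Agent.Lib.Co1Recog.Amalgam.Start

/-!
From the certificate of the graph to the map of the first Conway group.
-/

set_option autoImplicit false
set_option maxRecDepth 20000
set_option synthInstance.maxSize 4000
set_option synthInstance.maxHeartbeats 400000

namespace Cfsg.Agent.Co1Amalgam

open Cfsg Subgroup

/-- What is needed about the edge in the model. -/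
structure EdgeData (σ : Spor.Co1) : Prop where
  cert : GraphCert N1 E8Cent.C1 σ
  other : ∃ (τ : ↥N1) (x : ↥E8Cent.C1), (x : Spor.Co1) = τ * E8Cent.z1 * (τ : Spor.Co1)⁻¹ ∧
    x ∈ E8Cent.Q1 ∧ (x : Spor.Co1) ≠ E8Cent.z1 ∧ σ * x = x * σ ∧
    edgeStab σ ≤ Subgroup.closure {k | k ∈ edgeStab σ ∧ (k ∈ E8Cent.C1 ∨ k * x = x * k)}

/-- The model maps injectively, with the facts the endgame needs. -/
theorem exists_phi {σ : Spor.Co1} (D : EdgeData σ) {G : Type*} [Group G] [Finite G]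
    (z : G) (hz : orderOf z = 2) (Q : Subgroup (Subgroup.centralizer ({z} : Set G))) [Q.Normal]
    (hF : Cfsg.generalizedFittingSubgroup (Subgroup.centralizer ({z} : Set G)) = Q)
    (hQ : Cfsg.IsExtraspecial 2 Q) (hcard : Nat.card Q = 2 ^ 9)
    (e : (Subgroup.centralizer ({z} : Set G)) ⧸ Q ≃*
      Cfsg.Omega (ZMod 2) (Cfsg.quadFormPlus 4 (ZMod 2)))
    (hnwc : ∃ g : G, (∃ hq : g * z * g⁻¹ ∈ Subgroup.centralizer ({z} : Set G),
      (⟨g * z * g⁻¹, hq⟩ : Subgroup.centralizer ({z} : Set G)) ∈ Q) ∧ g * z * g⁻¹ ≠ z) :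
    ∃ φ : Spor.Co1 →* G, Function.Injective φ ∧ φ E8Cent.z1 = z ∧
      (∀ g, g * φ E8Cent.z1 = φ E8Cent.z1 * g → g ∈ φ.range) ∧
      (∃ a b c : G, orderOf a = 2 ∧ orderOf b = 2 ∧ orderOf c = 2 ∧ ¬ IsConj a b ∧ ¬ IsConj a c ∧
        ¬ IsConj b c ∧ ∀ x : G, orderOf x = 2 → IsConj x a ∨ IsConj x b ∨ IsConj x c) ∧
      ∀ x : G, x * x = 1 → ∃ g : G, g * x * g⁻¹ * φ E8Cent.z1 = φ E8Cent.z1 * (g * x * g⁻¹) := by
  obtain ⟨fC, fN, -, -, hCr, hCz, hag, hcompat, h3, hmeet⟩ :=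
    exists_amalgam z hz Q hF hQ hcard e hnwc
  obtain ⟨τ, x, hx, hxQ, hne, hσx, hgen⟩ := D.other
  obtain ⟨φ, hφ, -⟩ := exists_extension D.cert fN fC hag fun k hk hk' => by
    have hk2 : k ∈ edgeStab σ := ⟨hk, σ⁻¹ * k * σ, hk', by
      show σ * (σ⁻¹ * k * σ) * σ⁻¹ = k
      group⟩
    exact edge_rel hag hcompat ⟨σ, D.cert.mem⟩ τ x hx hxQ hne (Subtype.ext hσx) hgen k hk2
  obtain ⟨hinj, hz1, hC⟩ := extension_facts (by rintro rfl; simp at hz) hCr hCz φ hφ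
  exact ⟨φ, hinj, hz1, hC, h3, fun y hy => by rw [hz1]; exact hmeet y hy⟩

end Cfsg.Agent.Co1Amalgam
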