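import Cfsg.Agent.Lib.Co1Recog.Amalgam.ModelData
import Cfsg.Agent.Lib.E8Cent.Co1
import Cfsg.Agent.Lib.Leech.Monomial
import Cfsg.Agent.Lib.Leech.CrossOrbits

/-!
The involution of a sextet through the octad and its effect on monomial elements.
-/

set_option autoImplicit false
set_option maxRecDepth 20000

noncomputable section

namespace Cfsg.Agent.Co1Amalgam

open Cfsg Cfsg.Agent.Golay Cfsg.Agent.Leech Cfsg.Agent.PermCert Finset

/-- The tetrad of a point. -/
def tet (p : GolayPt) : ℕ := tetIds.getD (idx p) 0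

/-- The matrix of the sextet involution, scaled. -/
def xiMat : List (List ℤ) :=
  (List.range 24).map fun i => (List.range 24).map fun j =>
    bif Nat.beq (tetIds.getD i 0) (tetIds.getD j 0) then
      (bif Nat.beq (tetIds.getD i 0) 0 then -1 else 1) * (bif Nat.beq i j then 4 else -4)
    else 0

theorem xi_checks : SporPerm.matOK xiMat = true ∧ E8Cent.splitOK xiMat = true ∧
    SporPerm.transposeRows xiMat = xiMat := by
  decide +kernel

/-- The scaled entries. -/
def xiA (p q : GolayPt) : ℤ := SporPerm.toMat xiMat p q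

theorem xiA_ne : ∀ p q : GolayPt, xiA p q = 0 ↔ tet p ≠ tet q := by decide +kernel

/-- The sextet involution. -/
def xi : Co0 := (SporPerm.exists_of_matOK xi_checks.1).choose

theorem xi_smul (v : leechLattice) :
    ((xi • v : leechLattice) : GolayPt → ℤ) = fun p => (∑ q, xiA p q * (v : GolayPt → ℤ) q) / 8 :=
  (SporPerm.exists_of_matOK xi_checks.1).choose_spec.1 v

theorem xi_inv : xi⁻¹ = xi := by
  refine co0_ext fun i => Subtype.ext ?_
  have h := (SporPerm.exists_of_matOK xi_checks.1).choose_spec.2 (axis i)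
  exact h.trans ((congrArg (fun M => SporPerm.mapMat (SporPerm.toMat M) (axis i : GolayPt → ℤ))
    xi_checks.2.2).trans (xi_smul (axis i)).symm)

theorem xi_sq : xi * xi = 1 := by
  nth_rewrite 1 [← xi_inv]
  exact inv_mul_cancel _

theorem xi_axis (i p : GolayPt) :
    ((xi • axis i : leechLattice) : GolayPt → ℤ) p = xiA p i := by
  rw [xi_smul]
  simp only [coe_axis, Pi.single_apply, mul_ite, mul_zero, sum_ite_eq', mem_univ, if_true]
  omega

theorem sgn_sq (c : GolayPt → ZMod 2) (i : GolayPt) : sgn c i * sgn c i = 1 := by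
  rcases sgn_cases c i with e | e <;> rw [e] <;> norm_num

/-- Exchanging the involution with a monomial element. -/
theorem xi_mono (σ : M24) (c d : golayCode)
    (h : ∀ p q, xiA ((σ : Equiv.Perm GolayPt) p) ((σ : Equiv.Perm GolayPt) q) *
        sgn (d : GolayPt → ZMod 2) ((σ : Equiv.Perm GolayPt) q) =
      sgn (c : GolayPt → ZMod 2) ((σ : Equiv.Perm GolayPt) p) * xiA p q) :
    xi * mono (σ, d) = mono (σ, c) * xi := by
  refine co0_ext fun i => Subtype.ext (funext fun k => ?_)
  obtain ⟨p, rfl⟩ := (σ : Equiv.Perm GolayPt).surjective k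
  rw [mul_smul, mul_smul, mono_axis, mono_smul]
  simp only [monoFun, Equiv.symm_apply_apply]
  rw [xi_axis, ← h p i]
  rw [show xi • (sgn (d : GolayPt → ZMod 2) ((σ : Equiv.Perm GolayPt) i) •
      axis ((σ : Equiv.Perm GolayPt) i)) = sgn (d : GolayPt → ZMod 2) ((σ : Equiv.Perm GolayPt) i) •
      xi • axis ((σ : Equiv.Perm GolayPt) i) from
    by rw [← hom0_apply xi (_ • _), map_zsmul, hom0_apply]]
  rw [AddSubgroup.coe_zsmul, Pi.smul_apply, xi_axis, smul_eq_mul, mul_comm]

/-- A word constant on the tetrads commutes with the involution. -/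
theorem xi_diag (c : golayCode) (h : ∀ p q : GolayPt, tet p = tet q →
    (c : GolayPt → ZMod 2) p = (c : GolayPt → ZMod 2) q) :
    xi * Leech.diag c = Leech.diag c * xi := by
  refine xi_mono 1 c c fun p q => ?_
  rcases eq_or_ne (tet p) (tet q) with e | e
  · rw [show sgn (c : GolayPt → ZMod 2) (((1 : M24) : Equiv.Perm GolayPt) q) =
      sgn (c : GolayPt → ZMod 2) (((1 : M24) : Equiv.Perm GolayPt) p) from by
        simp only [OneMemClass.coe_one, Equiv.Perm.one_apply]
        unfold sgn
        rw [h p q e]]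
    simp only [OneMemClass.coe_one, Equiv.Perm.one_apply]
    ring
  · have h0 := (xiA_ne p q).2 e
    simp only [OneMemClass.coe_one, Equiv.Perm.one_apply, h0, zero_mul, mul_zero]

theorem tet_inO : ∀ p : GolayPt, E8Cent.InO p ↔ tet p ≤ 1 := by decide +kernel

theorem xWord_tet : ∀ p q : GolayPt, tet p = tet q →
    ofMask E8Cent.xMask p = ofMask E8Cent.xMask q := by decide +kernel

theorem xi_mem : xi ∈ E8Cent.Cc :=
  E8Cent.mem_Cc.2 (xi_diag E8Cent.xWord xWord_tet)

/-- The image of an axis has its support in the tetrad. -/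
theorem xi_not_mono : xi ∉ crossStab := fun h => by
  obtain ⟨a, ha⟩ := fixesStd_iff.1 (mem_crossStab.1 h)
  have e := congrArg (fun g : Co0 => ((g • axis none : leechLattice) : GolayPt → ℤ)) ha
  simp only [mono_axis, AddSubgroup.coe_zsmul, coe_axis] at e
  have h1 : ∀ p, xiA p none ≠ 0 → p = (a.1 : Equiv.Perm GolayPt) none := fun p hp => by
    by_contra hne
    have := congrFun e p
    rw [xi_axis, Pi.smul_apply, Pi.single_apply, if_neg hne, smul_zero] at this
    exact hp this.symm
  obtain ⟨p, q, hpq, hp, hq⟩ : ∃ p q : GolayPt, p ≠ q ∧ xiA p none ≠ 0 ∧ xiA q none ≠ 0 := by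
    decide +kernel
  exact hpq ((h1 p hp).trans (h1 q hq).symm)

/-- The supports in an equation between monomial elements and the involution. -/
theorem tet_rel {a b : M24 × golayCode} (h : mono a * xi = xi * mono b) (p q : GolayPt) :
    xiA p q * sgn (a.2 : GolayPt → ZMod 2) ((a.1 : Equiv.Perm GolayPt) p) =
      sgn (b.2 : GolayPt → ZMod 2) ((b.1 : Equiv.Perm GolayPt) q) *
        xiA ((a.1 : Equiv.Perm GolayPt) p) ((b.1 : Equiv.Perm GolayPt) q) := by
  have e := congrFun (congrArg (fun g : Co0 => ((g • axis q : leechLattice) : GolayPt → ℤ)) h)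
    ((a.1 : Equiv.Perm GolayPt) p)
  simp only [mul_smul, mono_axis, mono_smul, monoFun, Equiv.symm_apply_apply, xi_axis] at e
  rw [show xi • (sgn (b.2 : GolayPt → ZMod 2) ((b.1 : Equiv.Perm GolayPt) q) •
      axis ((b.1 : Equiv.Perm GolayPt) q)) = sgn (b.2 : GolayPt → ZMod 2) ((b.1 : Equiv.Perm GolayPt) q) •
      xi • axis ((b.1 : Equiv.Perm GolayPt) q) from
    by rw [← hom0_apply xi (_ • _), map_zsmul, hom0_apply],
    AddSubgroup.coe_zsmul, Pi.smul_apply, xi_axis, smul_eq_mul] at e
  rw [← e]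
  ring

theorem sgn_ne (c : GolayPt → ZMod 2) (i : GolayPt) : sgn c i ≠ 0 := by
  rcases sgn_cases c i with e | e <;> rw [e] <;> norm_num

/-- The permutation keeps the sextet. -/
theorem tet_iff {a b : M24 × golayCode} (h : mono a * xi = xi * mono b) (p q : GolayPt) :
    tet ((a.1 : Equiv.Perm GolayPt) p) = tet ((a.1 : Equiv.Perm GolayPt) q) ↔ tet p = tet q := by
  have key : ∀ p q, tet p = tet q ↔
      tet ((a.1 : Equiv.Perm GolayPt) p) = tet ((b.1 : Equiv.Perm GolayPt) q) := by
    intro p q
    have e := tet_rel h p q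
    rw [← not_iff_not, ← ne_eq, ← ne_eq, ← xiA_ne, ← xiA_ne]
    constructor <;> intro h0 <;> rw [h0] at e
    · rw [zero_mul, zero_eq_mul] at e
      exact e.resolve_left (sgn_ne _ _)
    · rw [mul_zero, mul_eq_zero] at e
      exact e.resolve_right (sgn_ne _ _)
  rw [key p q, (key q q).1 rfl]

end Cfsg.Agent.Co1Amalgam
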