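import Cfsg.Agent.Lib.Co1Recog.Amalgam.Model
import Cfsg.Agent.Lib.Co1Recog.Amalgam.Glue
import Cfsg.Agent.Lib.Golay.Local.Moving

/-!
The edge of the sextet involution in the model of the first Conway group.
-/

set_option autoImplicit false
set_option maxRecDepth 20000

noncomputable section

namespace Cfsg.Agent.Co1Amalgam

open Cfsg Cfsg.Agent.Golay Cfsg.Agent.Leech Cfsg.Agent.PermCert Finset
open scoped Pointwise

attribute [local irreducible] stabGens pairWords sextetReps tetIds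

/-- The sextet involution in the quotient. -/
def sigma1 : Spor.Co1 := E8Cent.piH xi

theorem sigma1_mem : sigma1 ∈ E8Cent.C1 := E8Cent.preimage_C1.2 xi_mem

theorem sigma1_sq : sigma1 * sigma1 = 1 := by
  rw [sigma1, ← map_mul, xi_sq, map_one]

theorem piH_mem_N1 {g : Co0} : E8Cent.piH g ∈ N1 ↔ g ∈ crossStab := by
  refine ⟨?_, fun h => Subgroup.mem_map_of_mem _ h⟩
  rintro ⟨m, hm, e⟩
  rcases E8Cent.piH_eq.1 e with e | e
  · rwa [e]
  · rw [e]; exact mul_mem hm (mono_mem _)

theorem mem_edge_iff {m : Co0} (hm : m ∈ crossStab) :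
    E8Cent.piH m ∈ edgeStab sigma1 ↔ xi * m * xi ∈ crossStab := by
  have hinv : sigma1⁻¹ = sigma1 := inv_eq_of_mul_eq_one_right sigma1_sq
  constructor
  · intro h
    have := mem_edgeStab h
    rw [hinv, sigma1, ← map_mul, ← map_mul] at this
    exact piH_mem_N1.1 this
  · intro h
    refine ⟨piH_mem_N1.2 hm, E8Cent.piH (xi * m * xi), piH_mem_N1.2 h, ?_⟩
    show sigma1 * E8Cent.piH (xi * m * xi) * sigma1⁻¹ = _
    rw [hinv, sigma1, ← map_mul, ← map_mul]
    congr 1
    rw [← mul_assoc, ← mul_assoc, xi_sq, one_mul, mul_assoc, xi_sq, mul_one]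

theorem edge_supports {m : Co0} (hm : m ∈ crossStab) (h : xi * m * xi ∈ crossStab) :
    ∃ a b, mono a = m ∧ mono a * xi = xi * mono b := by
  obtain ⟨a, ha⟩ := fixesStd_iff.1 (mem_crossStab.1 hm)
  obtain ⟨b, hb⟩ := fixesStd_iff.1 (mem_crossStab.1 h)
  refine ⟨a, b, ha, ?_⟩
  rw [ha, hb, ← mul_assoc, ← mul_assoc, xi_sq, one_mul]

/-- The tetrad as an element of `Fin 6`. -/
def tetF (p : GolayPt) : Fin 6 := Fin.ofNat 6 (tet p)

theorem tetF_eq : ∀ p q : GolayPt, (tetF p = tetF q ↔ tet p = tet q) := by decide +kernel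

/-- The image of an index under a word. -/
def wordIdx (w : List ℕ) (i : ℕ) : ℕ := w.foldr (fun k j => get 5 (stabGens.getD k (0, 0)).1 j) i

/-- The sign word of a generator. -/
def dMask (e : Elt) : ℕ := mkMask (fun i => Nat.beq (tetIds.getD i 0) 0) 24 ^^^
  imgMask e (mkMask (fun i => Nat.beq (tetIds.getD i 0) 0) 24)

/-- A generator's checks. -/
def genOK (e : Elt) : Bool :=
  validElt 5 24 e && isAutB e && inCode (dMask e) &&
    ((allBelow (fun i => E8Cent.oMask.testBit (get 5 e.1 i) == E8Cent.oMask.testBit i) 24) ||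
      (allBelow (fun i => o2Mask.testBit (get 5 e.1 i) == o2Mask.testBit i) 24)) &&
    allBelow (fun i => allBelow (fun j =>
      SporPerm.entry xiMat (get 5 e.1 i) (get 5 e.1 j) ==
        (bif (dMask e).testBit (get 5 e.1 i) then -1 else 1) * SporPerm.entry xiMat i j) 24) 24

theorem gens_ok : stabGens.length = 3 ∧ stabGens.all genOK = true ∧
    pairWords.all (fun w => w.all fun k => Nat.blt k 3) = true := by
  decide +kernel

/-- The words reach all pairs of tetrads. -/
theorem pairs_cover : ∀ b : Fin 6 → Bool,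
    (univ.filter fun p => b (tetF p)).card = 8 →
      ∃ w : Fin 15, ∀ i : Fin 24,
        b (Fin.ofNat 6 (tetIds.getD (wordIdx (pairWords.getD w []) i) 0)) = E8Cent.oMask.testBit i := by
  decide +kernel

theorem gen_perm {k : ℕ} (hk : k < 3) :
    ∃ (h : permOf (stabGens.getD k (0, 0)) ∈ M24),
      xi * mono (⟨_, h⟩, 0) * xi ∈ crossStab ∧
      ((∀ p, E8Cent.InO (permOf (stabGens.getD k (0, 0)) p) ↔ E8Cent.InO p) ∨
        ∀ p, ofMask o2Mask (permOf (stabGens.getD k (0, 0)) p) = ofMask o2Mask p) ∧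
      ∀ p, idx (permOf (stabGens.getD k (0, 0)) p) = get 5 (stabGens.getD k (0, 0)).1 (idx p) := by
  have hk' : k < stabGens.length := by rw [gens_ok.1]; exact hk
  have h := List.all_eq_true.1 gens_ok.2.1 _ (List.getElem_mem hk')
  rw [← List.getD_eq_getElem _ (0, 0) hk'] at h
  set e := stabGens.getD k (0, 0)
  simp only [genOK, Bool.and_eq_true, Bool.or_eq_true] at h
  obtain ⟨⟨⟨⟨hv, ha⟩, hd⟩, hfix⟩, hx⟩ := h
  have hi := idx_permOf hv
  refine ⟨permOf_mem_M24 hv ha, ?_, ?_, hi⟩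
  · have e' := xi_mono ⟨permOf e, permOf_mem_M24 hv ha⟩ ⟨ofMask (dMask e), ofMask_mem_golayCode hd⟩ 0
      fun p q => by
        have hh := allBelow_spec _ _ (allBelow_spec _ _ hx _ (idx_lt p)) _ (idx_lt q)
        simp only [beq_iff_eq] at hh
        show xiA (permOf e p) (permOf e q) * sgn 0 _ = _
        rw [show sgn (0 : GolayPt → ZMod 2) (permOf e q) = 1 from if_pos rfl, mul_one]
        show SporPerm.entry xiMat (idx (permOf e p)) (idx (permOf e q)) =
          sgn (ofMask (dMask e)) (permOf e p) * SporPerm.entry xiMat (idx p) (idx q)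
        rw [hi, hi, hh, sgn, ofMask, hi]
        cases (dMask e).testBit (get 5 e.1 (idx p)) <;> simp
    rw [e', mul_assoc, xi_sq, mul_one]
    exact mono_mem _
  · rcases hfix with hf | hf
    · refine Or.inl fun p => ?_
      have hh := allBelow_spec _ _ hf _ (idx_lt p)
      simp only [beq_iff_eq] at hh
      simp only [E8Cent.InO, hi, hh]
    · refine Or.inr fun p => ?_
      have hh := allBelow_spec _ _ hf _ (idx_lt p)
      simp only [beq_iff_eq] at hh
      simp only [ofMask, hi, hh]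

theorem o2_ok : inCode o2Mask = true ∧
    (∀ p, E8Cent.InO p → ofMask o2Mask p = 0) ∧ maskSet o2Mask ∈ octads ∧
    (∀ p q : GolayPt, tet p = tet q → ofMask o2Mask p = ofMask o2Mask q) ∧
    (∃ p, ofMask o2Mask p ≠ ofMask E8Cent.xMask p ∧ ofMask o2Mask p = 0) ∧
    ∃ p, ofMask o2Mask p = ofMask E8Cent.xMask p ∧ ofMask o2Mask p ≠ 0 := by
  have h : inCode o2Mask = true ∧ popCount o2Mask 24 = 8 := by decide +kernel
  refine ⟨h.1, by decide +kernel, mem_octads.2 ⟨o2Mask, mem_octadList.2 ⟨inCode_iff.1 h.1, h.2⟩, rfl⟩,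
    by decide +kernel, by decide +kernel, by decide +kernel⟩

/-- The word of the second octad. -/
def o2Word : golayCode := ⟨ofMask o2Mask, ofMask_mem_golayCode o2_ok.1⟩

/-- Its involution in the centraliser. -/
def x2 : ↥E8Cent.C1 := E8Cent.phiC (E8Cent.mem_ker_of_fixPair (a := ((1 : M24), o2Word))
  fun p hp => ⟨rfl, o2_ok.2.1 p hp⟩).choose

theorem x2_val : (x2 : Spor.Co1) = E8Cent.piH (Leech.diag o2Word) :=
  congrArg E8Cent.piH (E8Cent.mem_ker_of_fixPair (a := ((1 : M24), o2Word))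
    fun p hp => ⟨rfl, o2_ok.2.1 p hp⟩).choose_spec.1

theorem x2_Q : x2 ∈ E8Cent.Q1 :=
  Subgroup.mem_map_of_mem _ (E8Cent.mem_ker_of_fixPair (a := ((1 : M24), o2Word))
    fun p hp => ⟨rfl, o2_ok.2.1 p hp⟩).choose_spec.2

theorem x2_ne : (x2 : Spor.Co1) ≠ E8Cent.z1 := by
  rw [x2_val]
  intro e
  rcases E8Cent.piH_eq.1 e with h | h
  · obtain ⟨p, hp, -⟩ := o2_ok.2.2.2.2.1
    exact hp (congrFun (congrArg (fun a : M24 × golayCode => (a.2 : GolayPt → ZMod 2))
      (mono_injective h)).symm p)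
  · rw [negCo0, ← diag_add] at h
    obtain ⟨p, hp, hp0⟩ := o2_ok.2.2.2.2.2
    have := congrFun (congrArg (fun a : M24 × golayCode => (a.2 : GolayPt → ZMod 2))
      (mono_injective h)) p
    change ofMask E8Cent.xMask p = ofMask o2Mask p + 1 at this
    rw [← hp] at this
    exact one_ne_zero (left_eq_add.1 this)

theorem exists_tau : ∃ τ : ↥N1, (x2 : Spor.Co1) = τ * E8Cent.z1 * (τ : Spor.Co1)⁻¹ := by
  obtain ⟨p0, hp0, hp0o⟩ := Golay.exists_M24_octad E8Cent.oSet_mem o2_ok.2.2.1
  let m0 : Co0 := mono (⟨p0, hp0⟩, 0)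
  refine ⟨⟨E8Cent.piH m0, piH_mem_N1.2 (mono_mem _)⟩, ?_⟩
  show _ = E8Cent.piH m0 * E8Cent.z1 * (E8Cent.piH m0)⁻¹
  rw [x2_val, E8Cent.z1, eq_mul_inv_iff_mul_eq, ← map_mul, ← map_mul, E8Cent.piH_eq]
  refine Or.inr ?_
  rw [negCo0, mono_mul, mono_mul, E8Cent.t0, mono_mul]
  congr 1
  refine Prod.ext (by simp [pairMul]) (Subtype.ext (funext fun q => ?_))
  have hq : E8Cent.InO (p0.symm q) ↔ o2Mask.testBit (idx q) = true := by
    rw [← mem_maskSet (m := o2Mask), ← hp0o, Finset.mem_smul_finset]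
    constructor
    · intro h
      exact ⟨_, mem_maskSet.2 h, p0.apply_symm_apply q⟩
    · rintro ⟨r, hr, rfl⟩
      show E8Cent.InO (p0.symm (p0 r))
      rw [Equiv.symm_apply_apply]
      exact mem_maskSet.1 hr
  have hx : ∀ r, ofMask E8Cent.xMask r = if E8Cent.InO r then 0 else 1 := by decide +kernel
  simp only [pairMul, Submodule.coe_zero, Pi.add_apply, Pi.zero_apply, zero_add, add_zero,
    E8Cent.xWord, hx, o2Word, Pi.one_apply]
  simp only [ofMask]
  by_cases h : E8Cent.InO (p0.symm q)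
  · rw [if_pos h, if_pos (hq.1 h)]
    exact (by decide : (0 : ZMod 2) = 1 + 1)
  · rw [if_neg h, if_neg fun h' => h (hq.2 h')]
    exact (zero_add _).symm

/-- A word moving the octad to a union of tetrads stable under a permutation. -/
theorem exists_word (π : Equiv.Perm GolayPt)
    (h : ∀ p q, tet p = tet q → (E8Cent.InO (π p) ↔ E8Cent.InO (π q))) :
    ∃ (W : M24), E8Cent.piH (mono (W, 0)) ∈ Subgroup.closure
        {k | k ∈ edgeStab sigma1 ∧ (k ∈ E8Cent.C1 ∨ k * x2 = x2 * k)} ∧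
      ∀ p, E8Cent.InO (π ((W : Equiv.Perm GolayPt) p)) ↔ E8Cent.InO p := by
  classical
  let b : Fin 6 → Bool := fun t => decide (∃ q, tetF q = t ∧ E8Cent.InO (π q))
  have hb : ∀ p, b (tetF p) = true ↔ E8Cent.InO (π p) := fun p => by
    simp only [b, decide_eq_true_eq]
    exact ⟨fun ⟨q, hq, hi⟩ => (h q p ((tetF_eq q p).1 hq)).1 hi, fun hi => ⟨p, rfl, hi⟩⟩
  have hcard : (univ.filter fun p => b (tetF p)).card = 8 := by
    have e : (univ.filter fun p => b (tetF p)) =
        (univ.filter fun p => E8Cent.InO p).map π.symm.toEmbedding := by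
      ext p
      simp [hb]
    rw [e, card_map]
    decide +kernel
  obtain ⟨w, hw⟩ := pairs_cover b hcard
  have hwk : ∀ k ∈ pairWords.getD w [], k < 3 := by
    intro k hk
    have hw' : pairWords.getD w [] ∈ pairWords ∨ pairWords.getD w [] = [] := by
      rcases Nat.lt_or_ge (w : ℕ) pairWords.length with hl | hl
      · exact Or.inl (by rw [List.getD_eq_getElem _ _ hl]; exact List.getElem_mem hl)
      · exact Or.inr (List.getD_eq_default _ _ hl)
    rcases hw' with hm | hm
    · have := List.all_eq_true.1 (List.all_eq_true.1 gens_ok.2.2 _ hm) k hk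
      simpa using this
    · rw [hm] at hk
      exact absurd hk (List.not_mem_nil)
  suffices hWl : ∀ l : List ℕ, (∀ k ∈ l, k < 3) → ∃ W : M24, E8Cent.piH (mono (W, 0)) ∈
      Subgroup.closure {k | k ∈ edgeStab sigma1 ∧ (k ∈ E8Cent.C1 ∨ k * x2 = x2 * k)} ∧
      ∀ p, idx ((W : Equiv.Perm GolayPt) p) = wordIdx l (idx p) by
    obtain ⟨W, hW, hWi⟩ := hWl _ hwk
    refine ⟨W, hW, fun p => ?_⟩
    have e := hw ⟨idx p, idx_lt p⟩
    simp only [← hWi p] at e
    rw [← hb, show tetF ((W : Equiv.Perm GolayPt) p) =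
      Fin.ofNat 6 (tetIds.getD (idx ((W : Equiv.Perm GolayPt) p)) 0) from rfl, e]
  intro l
  induction l with
  | nil =>
    intro _
    refine ⟨1, ?_, fun p => rfl⟩
    rw [show mono ((1 : M24), (0 : golayCode)) = 1 from diag_zero, map_one]
    exact one_mem _
  | cons k l ih =>
    intro hl
    obtain ⟨W, hW, hWi⟩ := ih fun j hj => hl j (List.mem_cons_of_mem _ hj)
    obtain ⟨hg, hx, hfix, hi⟩ := gen_perm (hl k List.mem_cons_self)
    refine ⟨⟨_, hg⟩ * W, ?_, fun p => ?_⟩
    · rw [show mono ((⟨_, hg⟩ : M24) * W, (0 : golayCode)) =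
        mono ((⟨_, hg⟩ : M24), (0 : golayCode)) * mono (W, 0) by
          rw [mono_mul]; congr 1, map_mul]
      refine mul_mem (Subgroup.subset_closure ⟨(mem_edge_iff (mono_mem _)).2 hx, ?_⟩) hW
      rcases hfix with hf | hf
      · exact Or.inl (E8Cent.preimage_C1.2 (E8Cent.mono_mem_Cc hf))
      · refine Or.inr ?_
        rw [x2_val, ← map_mul, ← map_mul, mono_mul, mono_mul]
        congr 2
        refine Prod.ext (by simp [pairMul]) (Subtype.ext (funext fun i => ?_))
        simp only [pairMul, Submodule.coe_zero, Pi.add_apply, Pi.zero_apply, zero_add, add_zero, o2Word]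
        have := hf ((permOf (stabGens.getD k (0, 0))).symm i)
        rw [Equiv.apply_symm_apply] at this
        exact this.symm
    · show idx (permOf _ ((W : Equiv.Perm GolayPt) p)) = _
      rw [hi, hWi]
      rfl

theorem gen_edge : edgeStab sigma1 ≤
    Subgroup.closure {k | k ∈ edgeStab sigma1 ∧ (k ∈ E8Cent.C1 ∨ k * x2 = x2 * k)} := by
  intro k hk
  obtain ⟨m, hm, rfl⟩ := hk.1
  obtain ⟨a, b, ha, hab⟩ := edge_supports hm ((mem_edge_iff hm).1 hk)
  obtain ⟨W, hW, hWO⟩ := exists_word (a.1 : Equiv.Perm GolayPt) fun p q e => by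
    rw [tet_inO, tet_inO, (tet_iff hab p q).2 e]
  have hWK : E8Cent.piH (mono (W, 0)) ∈ edgeStab sigma1 :=
    (Subgroup.closure_le _).2 (fun u hu => hu.1) hW
  have hprod : E8Cent.piH m * E8Cent.piH (mono (W, 0)) ∈ Subgroup.closure
      {k | k ∈ edgeStab sigma1 ∧ (k ∈ E8Cent.C1 ∨ k * x2 = x2 * k)} := by
    refine Subgroup.subset_closure ⟨mul_mem hk hWK, Or.inl ?_⟩
    rw [← map_mul, ← ha, mono_mul]
    exact E8Cent.preimage_C1.2 (E8Cent.mono_mem_Cc hWO)
  have := mul_mem hprod (inv_mem hW)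
  rwa [mul_inv_cancel_right] at this

/-- The neighbours of the base inside the block. -/
theorem in_block (c : Spor.Co1) (hc : c ∈ E8Cent.C1)
    (hadj : edgeAdj N1 sigma1 ((1 : Spor.Co1) : Spor.Co1 ⧸ N1) (c : Spor.Co1 ⧸ N1)) :
    ∃ n ∈ N1, n ∈ E8Cent.C1 ∧ (n * sigma1)⁻¹ * c ∈ N1 := by
  obtain ⟨p, hp, hpc⟩ := hadj
  have hpN : p ∈ N1 := by
    have := QuotientGroup.eq.1 hp.symm
    rwa [inv_one, one_mul] at this
  have hn := QuotientGroup.eq.1 hpc
  obtain ⟨γ, hγ⟩ := E8Cent.phiC_surj ⟨c, hc⟩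
  have hγc : E8Cent.piH (γ : Co0) = c := congrArg Subtype.val hγ
  obtain ⟨m, hm, rfl⟩ := hpN
  obtain ⟨a, ha⟩ := fixesStd_iff.1 (mem_crossStab.1 hm)
  rw [sigma1, ← hγc, ← map_mul, ← map_inv, ← map_mul] at hn
  obtain ⟨b, hb⟩ := fixesStd_iff.1 (mem_crossStab.1 (piH_mem_N1.1 hn))
  have heq : (γ : Co0) = mono a * xi * mono b := by
    rw [hb, ha]; group
  have hsupp : ∀ r q : GolayPt, (((γ : Co0) • axis q : leechLattice) : GolayPt → ℤ) r ≠ 0 →
      (E8Cent.InO r ↔ E8Cent.InO q) := by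
    intro r q hr
    have e := congrFun (congrArg (fun g : Co0 => ((g • axis q : leechLattice) : GolayPt → ℤ))
      (E8Cent.mem_Cc.1 γ.2)) r
    simp only [mul_smul] at e
    rw [E8Cent.t0_smul] at e
    rw [show E8Cent.t0 • axis q = E8Cent.sg q • axis q from Subtype.ext (funext fun u => by
      rw [E8Cent.t0_smul, AddSubgroup.coe_zsmul, Pi.smul_apply, smul_eq_mul, coe_axis, Pi.single_apply]
      split_ifs with hu
      · rw [hu]
      · rw [mul_zero, mul_zero]),
      ← hom0_apply (γ : Co0) (E8Cent.sg q • axis q), map_zsmul, hom0_apply,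
      AddSubgroup.coe_zsmul, Pi.smul_apply, smul_eq_mul] at e
    have h2 := mul_right_cancel₀ hr e
    unfold E8Cent.sg at h2
    by_cases h1 : E8Cent.InO r <;> by_cases h3 : E8Cent.InO q
    · exact iff_of_true h1 h3
    · rw [if_pos h1, if_neg h3] at h2; exact absurd h2 (by decide)
    · rw [if_neg h1, if_pos h3] at h2; exact absurd h2 (by decide)
    · exact iff_of_false h1 h3
  have hblock : ∀ p q, tet p = tet q →
      (E8Cent.InO ((a.1 : Equiv.Perm GolayPt) p) ↔ E8Cent.InO ((a.1 : Equiv.Perm GolayPt) q)) := by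
    intro p q e
    have hnz : ∀ u, tet u = tet q →
        (E8Cent.InO ((a.1 : Equiv.Perm GolayPt) u) ↔ E8Cent.InO ((b.1 : Equiv.Perm GolayPt).symm q)) := by
      intro u hu
      refine hsupp _ _ ?_
      rw [heq, mul_smul, mul_smul, mono_axis, Equiv.apply_symm_apply,
        ← hom0_apply xi (_ • _), map_zsmul, hom0_apply, ← hom0_apply (mono a) (_ • _), map_zsmul,
        hom0_apply, AddSubgroup.coe_zsmul, Pi.smul_apply, mono_smul, smul_eq_mul]
      simp only [monoFun, Equiv.symm_apply_apply, xi_axis]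
      exact mul_ne_zero (sgn_ne _ _) (mul_ne_zero (sgn_ne _ _)
        fun h0 => (xiA_ne u q).1 h0 hu)
    rw [hnz p e, hnz q rfl]
  obtain ⟨W, hW, hWO⟩ := exists_word (a.1 : Equiv.Perm GolayPt) hblock
  have hWK : E8Cent.piH (mono (W, 0)) ∈ edgeStab sigma1 :=
    (Subgroup.closure_le _).2 (fun u hu => hu.1) hW
  refine ⟨E8Cent.piH m * E8Cent.piH (mono (W, 0)), mul_mem (piH_mem_N1.2 hm) hWK.1, ?_, ?_⟩
  · rw [← map_mul, ← ha, mono_mul]
    exact E8Cent.preimage_C1.2 (E8Cent.mono_mem_Cc hWO)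
  · have h1 := mem_edgeStab hWK
    have h2 := mul_mem (inv_mem h1) (QuotientGroup.eq.1 hpc)
    rw [sigma1, ← hγc] at h2 ⊢
    convert h2 using 1
    group

theorem allBelow_intro (f : ℕ → Bool) : ∀ n, (∀ i < n, f i = true) → allBelow f n = true
  | 0, _ => rfl
  | n + 1, h => by
    show (allBelow f n && f n) = true
    rw [allBelow_intro f n fun i hi => h i (by omega), h n (by omega)]
    rfl

/-- The checks on the representatives of the sextets. -/
def repOK (e : Elt) : Bool :=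
  validElt 5 24 e && isAutB e && allBelow (fun i => E8Cent.oMask.testBit (get 5 e.1 i) == E8Cent.oMask.testBit i) 24

/-- Two representatives give different sextets. -/
def repsDiffer (e f : Elt) : Bool :=
  !(allBelow (fun i => allBelow (fun j =>
    Nat.beq (tetIds.getD (get 5 e.2 i) 0) (tetIds.getD (get 5 e.2 j) 0) ==
      Nat.beq (tetIds.getD (get 5 f.2 i) 0) (tetIds.getD (get 5 f.2 j) 0)) 24) 24)

theorem reps_ok : sextetReps.length = 35 ∧ sextetReps.all repOK = true ∧ inCode oddMask = true ∧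
    ((List.range 35).all fun i => (List.range 35).all fun j =>
      Nat.beq i j || repsDiffer (sextetReps.getD i (0, 0)) (sextetReps.getD j (0, 0))) = true := by
  decide +kernel

theorem odd_cols : ∀ (q q' : GolayPt) (s : Bool), ∃ p : GolayPt,
    xiA p q * (if ofMask oddMask p = 0 then 1 else -1) ≠ (cond s 1 (-1)) * xiA p q' := by
  decide +kernel

theorem block_gen :
    E8Cent.C1 ≤ Subgroup.closure (((N1 ⊓ E8Cent.C1 : Subgroup Spor.Co1) : Set Spor.Co1) ∪ {sigma1}) := by
  classical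
  set H := Subgroup.closure (((N1 ⊓ E8Cent.C1 : Subgroup Spor.Co1) : Set Spor.Co1) ∪ {sigma1}) with hH
  set L : Subgroup ↥E8Cent.C1 := H.subgroupOf E8Cent.C1 with hL
  have hBL : N1.subgroupOf E8Cent.C1 ≤ L := fun u hu =>
    Subgroup.subset_closure (Or.inl ⟨hu, u.2⟩)
  have hσL : (⟨sigma1, sigma1_mem⟩ : ↥E8Cent.C1) ∈ L := Subgroup.subset_closure (Or.inr rfl)
  have hrep : ∀ i : Fin 35, ∃ h : permOf (sextetReps.getD i (0, 0)) ∈ M24,
      (∀ p, E8Cent.InO (permOf (sextetReps.getD i (0, 0)) p) ↔ E8Cent.InO p) ∧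
      ∀ p, idx ((permOf (sextetReps.getD i (0, 0))).symm p) =
        get 5 (sextetReps.getD i (0, 0)).2 (idx p) := by
    intro i
    have hi : (i : ℕ) < sextetReps.length := by rw [reps_ok.1]; exact i.2
    have h := List.all_eq_true.1 reps_ok.2.1 _ (List.getElem_mem hi)
    rw [← List.getD_eq_getElem _ (0, 0) hi] at h
    simp only [repOK, Bool.and_eq_true] at h
    obtain ⟨⟨hv, ha⟩, hO⟩ := h
    refine ⟨permOf_mem_M24 hv ha, fun p => ?_, idx_permOf_symm hv⟩
    have := allBelow_spec _ _ hO _ (idx_lt p)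
    simp only [beq_iff_eq] at this
    simp only [E8Cent.InO, idx_permOf hv, this]
  choose hM hO hI using hrep
  let od : golayCode := ⟨ofMask oddMask, ofMask_mem_golayCode reps_ok.2.2.1⟩
  let el : Fin 35 × Bool → M24 × golayCode := fun u => (⟨_, hM u.1⟩, cond u.2
    ⟨_, code_perm (σ := permOf (sextetReps.getD (u.1 : ℕ) (0, 0))) (hM u.1) od.2⟩ 0)
  have helC : ∀ u, mono (el u) * xi ∈ E8Cent.Cc := fun u =>
    mul_mem (E8Cent.mono_mem_Cc (hO u.1)) xi_mem
  let pt70 : Fin 35 × Bool → ↥E8Cent.C1 := fun u => E8Cent.phiC ⟨_, helC u⟩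
  have hpt : ∀ u, pt70 u ∈ L := fun u => by
    show E8Cent.piH (mono (el u) * xi) ∈ H
    rw [map_mul]
    exact mul_mem (Subgroup.subset_closure (Or.inl ⟨piH_mem_N1.2 (mono_mem _),
      E8Cent.preimage_C1.2 (E8Cent.mono_mem_Cc (hO u.1))⟩)) (Subgroup.subset_closure (Or.inr rfl))
  let ι : Fin 35 × Bool → ↥L ⧸ (N1.subgroupOf E8Cent.C1).subgroupOf L := fun u =>
    ((⟨pt70 u, hpt u⟩ : ↥L) : ↥L ⧸ _)
  have hι : Function.Injective ι := by
    rintro ⟨i, e⟩ ⟨j, f⟩ h
    have h1 := QuotientGroup.eq.1 h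
    change (E8Cent.piH (mono (el (i, e)) * xi))⁻¹ * E8Cent.piH (mono (el (j, f)) * xi) ∈ N1 at h1
    rw [← map_inv, ← map_mul, piH_mem_N1, mul_inv_rev, xi_inv,
      mul_assoc xi, ← mul_assoc (mono (el (i, e)))⁻¹] at h1
    obtain ⟨c, hc⟩ : ∃ c, mono c = (mono (el (i, e)))⁻¹ * mono (el (j, f)) :=
      fixesStd_iff.1 (mem_crossStab.1 (mul_mem (inv_mem (mono_mem _)) (mono_mem _)))
    rw [← hc, ← mul_assoc] at h1
    obtain ⟨a, b, ha, hab⟩ := edge_supports (mono_mem c) h1
    obtain rfl := mono_injective ha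
    have hc' := congrArg (mono (el (i, e)) * ·) hc
    simp only [mul_inv_cancel_left] at hc'
    rw [mono_mul] at hc'
    have hperm := congrArg Prod.fst (mono_injective hc')
    simp only [pairMul, el] at hperm
    have hij : i = j := by
      by_contra hne
      have h2 := List.all_eq_true.1 (List.all_eq_true.1 reps_ok.2.2.2 i (List.mem_range.2 i.2)) j
        (List.mem_range.2 j.2)
      simp only [Bool.or_eq_true, Nat.beq_eq, repsDiffer, Bool.not_eq_true'] at h2
      rcases h2 with h2 | h2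
      · exact hne (Fin.ext h2)
      refine absurd ?_ (ne_true_of_eq_false h2)
      refine allBelow_intro _ _ fun k hk => allBelow_intro _ _ fun l hl => ?_
      obtain ⟨p, rfl⟩ : ∃ p, idx p = k := ⟨pt ⟨k, hk⟩, idx_pt ⟨k, hk⟩⟩
      obtain ⟨q, rfl⟩ : ∃ q, idx q = l := ⟨pt ⟨l, hl⟩, idx_pt ⟨l, hl⟩⟩
      rw [← hI i p, ← hI i q, ← hI j p, ← hI j q, beq_iff_eq, Bool.eq_iff_iff, Nat.beq_eq, Nat.beq_eq]
      have hp : ∀ r, (a.1 : Equiv.Perm GolayPt) ((permOf (sextetReps.getD (j : ℕ) (0, 0))).symm r) =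
          (permOf (sextetReps.getD (i : ℕ) (0, 0))).symm r := fun r => by
        have := congrArg (fun s : M24 => (s : Equiv.Perm GolayPt)
          ((permOf (sextetReps.getD (j : ℕ) (0, 0))).symm r)) hperm
        simp only [Subgroup.coe_mul, Equiv.Perm.mul_apply, Equiv.apply_symm_apply] at this
        rw [Equiv.eq_symm_apply]
        exact this
      show tet ((permOf (sextetReps.getD (i : ℕ) (0, 0))).symm p) =
          tet ((permOf (sextetReps.getD (i : ℕ) (0, 0))).symm q) ↔
        tet ((permOf (sextetReps.getD (j : ℕ) (0, 0))).symm p) =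
          tet ((permOf (sextetReps.getD (j : ℕ) (0, 0))).symm q)
      rw [← hp p, ← hp q, tet_iff hab]
    subst hij
    by_contra hne
    have hef : e ≠ f := fun h => hne (by rw [h])
    have hs := congrArg Prod.snd (mono_injective hc')
    have ha1 : a.1 = 1 := mul_eq_left.1 hperm
    have hval : ∀ p, (a.2 : GolayPt → ZMod 2) p = ofMask oddMask p := by
      intro p
      have := congrFun (congrArg Subtype.val hs) (permOf (sextetReps.getD (i : ℕ) (0, 0)) p)
      simp only [pairMul, el, Pi.add_apply, Equiv.symm_apply_apply] at this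
      cases e <;> cases f <;> first
        | exact absurd rfl hef
        | (simp only [cond_true, cond_false, Submodule.coe_zero, Pi.zero_apply, zero_add] at this
           first
            | (rw [this]; simp [od])
            | (simp only [od, Equiv.symm_apply_apply] at this; exact CharTwo.add_eq_zero.1 (by rw [add_comm]; exact this)))
    obtain ⟨q, -⟩ : ∃ q : GolayPt, q = none := ⟨none, rfl⟩
    obtain ⟨p, hp⟩ := odd_cols q ((b.1 : Equiv.Perm GolayPt) q)
      (decide (sgn (b.2 : GolayPt → ZMod 2) ((b.1 : Equiv.Perm GolayPt) q) = 1))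
    refine hp ?_
    have e3 := tet_rel hab p q
    rw [ha1] at e3
    simp only [OneMemClass.coe_one, Equiv.Perm.one_apply] at e3
    rw [sgn, hval] at e3
    rw [e3]
    congr 1
    rcases sgn_cases (b.2 : GolayPt → ZMod 2) ((b.1 : Equiv.Perm GolayPt) q) with h4 | h4 <;> simp [h4]
  have h70 : 70 ≤ (N1.subgroupOf E8Cent.C1).relIndex L := by
    have := Nat.card_le_card_of_injective ι hι
    rw [Nat.card_eq_fintype_card, Fintype.card_prod, Fintype.card_fin, Fintype.card_bool] at this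
    exact this
  have h135 : (N1.subgroupOf E8Cent.C1).index = 135 := by
    have e : N1.subgroupOf E8Cent.C1 = (crossStab.subgroupOf E8Cent.Cc).map E8Cent.phiC := B1_eq
    rw [e, Subgroup.index_map_eq _ E8Cent.phiC_surj]
    · have h := (crossStab.subgroupOf E8Cent.Cc).card_mul_index
      have hge : 322560 * 4096 ≤ Nat.card (crossStab.subgroupOf E8Cent.Cc) := by
        have hst : ∀ u : stOct (maskSet E8Cent.oMask), ∀ p,
            E8Cent.InO ((u : Equiv.Perm GolayPt) p) ↔ E8Cent.InO p := by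
          intro u p
          have h2 := (mem_stOct.1 u.2).2
          show E8Cent.oMask.testBit _ = true ↔ E8Cent.oMask.testBit _ = true
          rw [← mem_maskSet (m := E8Cent.oMask), ← mem_maskSet (m := E8Cent.oMask)]
          constructor
          · intro h
            obtain ⟨r, hr, e⟩ := Finset.mem_smul_finset.1 (h2.ge h)
            rwa [← (u : Equiv.Perm GolayPt).injective e]
          · exact fun h => h2.le (Finset.smul_mem_smul_finset h)
        have := Nat.card_le_card_of_injective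
          (fun u : stOct (maskSet E8Cent.oMask) × golayCode =>
            (⟨⟨mono (⟨u.1, (mem_stOct.1 u.1.2).1⟩, u.2), E8Cent.mono_mem_Cc (hst u.1)⟩, mono_mem _⟩ :
              crossStab.subgroupOf E8Cent.Cc))
          fun u v huv => by
            have h2 := mono_injective (congrArg (fun w : crossStab.subgroupOf E8Cent.Cc =>
              ((w : E8Cent.Cc) : Co0)) huv)
            simp only [Prod.mk.injEq, Subtype.mk.injEq] at h2
            exact Prod.ext (Subtype.ext h2.1) h2.2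
        rwa [Nat.card_prod, card_stOct E8Cent.oSet_mem, card_golayCode] at this
      rw [le_antisymm E8Cent.card_stab_le hge, E8Cent.group_facts.1] at h
      omega
    · intro u hu
      have := MonoidHom.mem_ker.1 hu
      rw [← map_one E8Cent.phiC] at this
      rcases E8Cent.phiC_eq.1 this.symm with e' | e'
      · rw [e']; exact one_mem _
      · rw [e', one_mul]; exact mono_mem _
  have hmul := Subgroup.relIndex_mul_index hBL
  rw [h135] at hmul
  have htop : L = ⊤ := by
    refine Subgroup.index_eq_one.1 ?_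
    have hne : L.index ≠ 0 := fun h => by rw [h, mul_zero] at hmul; omega
    nlinarith [Nat.pos_of_ne_zero hne]
  intro c hc
  have : (⟨c, hc⟩ : ↥E8Cent.C1) ∈ L := htop ▸ Subgroup.mem_top _
  exact this

theorem sup_top : N1 ⊔ E8Cent.C1 = ⊤ := by
  have hne : crossStab < (N1 ⊔ E8Cent.C1).comap E8Cent.piH := by
    refine lt_of_le_of_ne (fun g hg => Subgroup.mem_sup_left (piH_mem_N1.2 hg)) fun e => ?_
    refine xi_not_mono ?_
    rw [e]
    exact Subgroup.mem_sup_right (E8Cent.preimage_C1.2 xi_mem)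
  have := isCoatom_crossStab.2 _ hne
  refine eq_top_iff.2 fun y _ => ?_
  obtain ⟨g, rfl⟩ := QuotientGroup.mk'_surjective (Subgroup.center Co0) y
  have hg : g ∈ (N1 ⊔ E8Cent.C1).comap E8Cent.piH := this ▸ Subgroup.mem_top g
  exact hg

/-- The edge data, up to the certificate of the graph. -/
theorem edgeData
    (htri : ∀ x y w : Spor.Co1 ⧸ N1, edgeAdj N1 sigma1 x y → edgeAdj N1 sigma1 y w →
      edgeAdj N1 sigma1 x w → ∃ (p a b c : Spor.Co1), a ∈ E8Cent.C1 ∧ b ∈ E8Cent.C1 ∧ c ∈ E8Cent.C1 ∧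
        ((p * a : Spor.Co1) : Spor.Co1 ⧸ N1) = x ∧ ((p * b : Spor.Co1) : Spor.Co1 ⧸ N1) = y ∧
        ((p * c : Spor.Co1) : Spor.Co1 ⧸ N1) = w)
    (hlay : ∃ (d : Spor.Co1 ⧸ N1 → ℕ) (B : ℕ),
      Co1Mult.Layered (edgeAdj N1 sigma1) d ((1 : Spor.Co1) : Spor.Co1 ⧸ N1) B) :
    EdgeData sigma1 := by
  obtain ⟨τ, hτ⟩ := exists_tau
  refine ⟨⟨sigma1_mem, by rw [sigma1_sq]; exact one_mem _, in_block, htri, block_gen, sup_top, hlay⟩,
    τ, x2, hτ, x2_Q, x2_ne, ?_, gen_edge⟩
  rw [x2_val, sigma1, ← map_mul, ← map_mul, xi_diag o2Word o2_ok.2.2.2.1]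

end Cfsg.Agent.Co1Amalgam
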