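import Cfsg.Agent.Lib.CoM24.Octads
import Cfsg.Agent.Lib.CoM24.Split
import Cfsg.Agent.Lib.E8Cent.Extra
import Cfsg.Agent.Lib.Golay.Local.Moving

/-!
The normalizer of the abelian subgroup of order 2048 is the monomial group modulo the sign.
-/

set_option autoImplicit false
set_option maxRecDepth 20000
set_option synthInstance.maxSize 4000
set_option synthInstance.maxHeartbeats 400000

noncomputable section

namespace Cfsg.Agent.Co1Amalgam

open Cfsg Cfsg.Agent.Golay Cfsg.Agent.Golay.Cert Cfsg.Agent.Golay.Local Cfsg.Agent.Golay.OctadSpace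
open Cfsg.Agent.Leech Cfsg.Agent.CoM24
open Subgroup
open scoped Pointwise

/-- A coordinate with word vanishing on the standard octad is low. -/
theorem low_word : ((List.range 2048).all fun y =>
    !((Nat.beq (word y &&& refOctad) 0) || (Nat.beq ((word y ^^^ 16777215) &&& refOctad) 0)) ||
      Nat.blt y 32) = true := by
  decide +kernel

/-- The word of the complement of the octad is the octad word up to the constants. -/
theorem xWord_eq : (E8Cent.xWord : GolayPt → ZMod 2) = ind (maskSet E8Cent.oMask) + fun _ => 1 := by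
  show ofMask E8Cent.xMask = _
  rw [← ofMask_eq_ind, show (fun _ => 1 : GolayPt → ZMod 2) = ofMask 16777215 from one_eq, ← ofMask_xor]
  congr 1

theorem kap_low {c : GolayPt → ZMod 2} (hc : c ∈ golayCode) (h : ∀ p ∈ refOct, c p = 0) :
    (kap c).y < 32 := by
  have hs := kap_spec hc
  have key : ∀ m : ℕ, (∀ p ∈ refOct, ofMask m p = 0) → m &&& refOctad = 0 := by
    intro m hm
    refine Nat.eq_of_testBit_eq fun i => ?_
    rw [Nat.testBit_and, Nat.zero_testBit]
    by_contra hi
    simp only [Bool.and_eq_false_iff, not_or, Bool.not_eq_false] at hi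
    have hi24 : i < 24 := by
      by_contra hge
      have : refOctad < 2 ^ i := lt_of_lt_of_le (by decide : refOctad < 2 ^ 24)
        (Nat.pow_le_pow_right (by norm_num) (not_lt.1 hge))
      rw [Nat.testBit_lt_two_pow this] at hi
      exact Bool.noConfusion hi.2
    have hsurj : ∀ i : Fin 24, ∃ p, idx p = (i : ℕ) := by decide +kernel
    obtain ⟨p, hp⟩ := hsurj ⟨i, hi24⟩
    simp only at hp
    have h1 := hm p (mem_maskSet.2 (by rw [hp]; exact hi.2))
    rw [ofMask, hp, if_pos hi.1] at h1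
    exact one_ne_zero h1
  have hl := List.all_eq_true.1 low_word _ (List.mem_range.2 (kap c).lt)
  simp only [Bool.or_eq_true, Bool.not_eq_true', Bool.or_eq_false_iff, Nat.blt_eq] at hl
  rcases hl with ⟨h1, h2⟩ | hl
  · exfalso
    rcases hs with e | e
    · have := key (word (kap c).y) fun p hp => by rw [e]; exact h p hp
      rw [this] at h1
      exact absurd h1 (by decide)
    · have := key (word (kap c).y ^^^ 16777215) fun p hp => by
        rw [ofMask_xor, ← one_eq, e]
        simp [h p hp, CharTwo.add_self_eq_zero]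
      rw [this] at h2
      exact absurd h2 (by decide)
  · exact hl

/-- What the map from the monomial group to the normalizer satisfies. -/
structure NSide {G : Type*} [Group G] (z : G) (s : Fin 4 → G) (Q : Subgroup G)
    (f : crossStab →* G) : Prop where
  range : f.range = normalizer (AA z s : Set G)
  ker : ∀ x, f x = 1 ↔ (x : Co0) = 1 ∨ (x : Co0) = negCo0
  t0 : f ⟨E8Cent.t0, mono_mem _⟩ = z
  diag : ∀ x, f x ∈ AA z s ↔ (pairOf x).1 = 1
  low : ∀ (c : golayCode), (∀ p, E8Cent.InO p → (c : GolayPt → ZMod 2) p = 0) →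
    f ⟨Leech.diag c, mono_mem _⟩ ∈ Q

variable {G : Type*} [Group G] [Finite G] {z : G} {Q : Subgroup G} {π : G → CoT.V}
  {ρ : G → CoT.V → CoT.V} {s g : Fin 4 → G}

/-- The abelian subgroup, its coordinates and a section to the group of the code. -/
theorem exists_section (X : Four z Q π ρ s g) :
    ∃ (e : ℕ → G) (k : ↥M24 →* G), OctCoords z s e ∧ (∀ y < 32, e y ∈ Q) ∧
      (∀ σ, k σ ∈ normalizer (AA z s : Set G)) ∧ (∀ σ, k σ ∈ AA z s → σ = 1) ∧
      (∀ n ∈ normalizer (AA z s : Set G), ∃ σ, ∃ a ∈ AA z s, n = a * k σ) ∧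
      ∀ (σ : M24) (c : GolayPt → ZMod 2), c ∈ golayCode →
        k σ * e (kap c).y * (k σ)⁻¹ = e (kap (moved (σ : Equiv.Perm GolayPt) c)).y := by
  classical
  obtain ⟨r, hr⟩ := X.base.exists_rsys
  obtain ⟨ta, hta⟩ := X.exists_tsys hr
  obtain ⟨e, he, hlow, hreach⟩ := exists_octCoords_low X
  set A := AA z s with hA
  set N := normalizer (A : Set G) with hN
  have e0 : e 0 = 1 := by
    have := he.xor 0 0 (by norm_num) (by norm_num)
    rw [Nat.xor_self] at this
    exact left_eq_mul.1 this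
  have hne : ∀ y, y < 2048 → y ≠ 0 → e y ≠ 1 := fun y hy h0 h =>
    h0 (he.inj y 0 hy (by norm_num) (h.trans e0.symm))
  have hconj : ∀ (n : ↥N) (y : ℕ), ∃ y' < 2048, e y' = (n : G) * e y * (n : G)⁻¹ := fun n y =>
    he.surj _ ((mem_normalizer_iff.1 n.2 _).1 (he.mem y))
  choose f hflt hfe using hconj
  have huniq : ∀ (n : ↥N) (y y' : ℕ), y' < 2048 → e y' = (n : G) * e y * (n : G)⁻¹ → f n y = y' :=
    fun n y y' hy' h => he.inj _ _ (hflt n y) hy' ((hfe n y).trans h.symm)
  have hact : Act f :=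
    { lt := fun n y _ => hflt n y
      mul := fun n m y _ => huniq _ _ _ (hflt _ _) (by
        rw [hfe, hfe, Subgroup.coe_mul]; group)
      one := fun y hy => huniq _ _ _ hy (by rw [Subgroup.coe_one]; group)
      xor := fun n x y hx hy => huniq _ _ _ (lt11 (hflt n x) (hflt n y)) (by
        rw [he.xor _ _ (hflt n x) (hflt n y), hfe, hfe, he.xor x y hx hy]; group)
      oct := fun n y h0 hy => by
        have h0' : f n y ≠ 0 := fun h => hne y hy h0 (conj_eq_one_iff.1
          (show (n : G) * e y * (n : G)⁻¹ = 1 by rw [← hfe, h, e0]))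
        rw [Bool.eq_iff_iff, ← he.oct _ h0' (hflt n y), ← he.oct y h0 hy]
        exact (conj_iff_conj _ _ _ (hfe n y).symm).symm }
  obtain ⟨Φ, hker, hΦ⟩ := octad_hom hact
  have htriv : ∀ n : ↥N, (∀ y < 2048, f n y = y) ↔ (n : G) ∈ A := by
    intro n
    constructor
    · intro h
      refine X.cent_AA hr fun u hu => ?_
      obtain ⟨y, hy, rfl⟩ := he.surj u hu
      have := hfe n y
      rw [h y hy] at this
      exact mul_inv_eq_iff_eq_mul.1 this.symm
    · intro h y hy
      exact huniq n y y hy (by rw [X.AA_comm hr h (he.mem y), mul_inv_cancel_right])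
  have hAN : A ≤ N := le_normalizer
  have hk : Φ.ker = A.subgroupOf N := by
    ext n
    rw [MonoidHom.mem_ker, hker, htriv]
    exact Iff.rfl
  have hcardA : Nat.card A = 2048 := X.card_AA hr
  have hsurj : Function.Surjective Φ := by
    have hHN : HH z s ≤ N := inf_le_right
    refine octad_surjective hact hΦ ((HH z s).subgroupOf N) (fun n hn => huniq _ _ _ (by norm_num) ?_)
      (card_map_ge hker _ ?_) fun k hk => ?_
    · rw [he.one]
      exact (mul_inv_eq_iff_eq_mul.2 (mem_centralizer_singleton_iff.1 hn.1)).symm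
    · rw [Nat.card_congr (subgroupOfEquivOfLe hHN).toEquiv]
      refine le_trans (Nat.mul_le_mul_left _ ?_) (X.card_HH hr hta)
      have hle : Nat.card {n : ↥N // n ∈ (HH z s).subgroupOf N ∧ ∀ y < 2048, f n y = y} ≤ Nat.card A :=
        Nat.card_le_card_of_injective (fun n => (⟨((n.1 : ↥N) : G), (htriv n.1).1 n.2.2⟩ : A))
          fun a b h => Subtype.ext (Subtype.ext (congrArg (fun u : A => (u : G)) h))
      exact hle.trans hcardA.le
    · obtain ⟨m, hm, y, hy, hmy, hyk⟩ := hreach k hk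
      refine ⟨⟨m, hm⟩, ?_⟩
      rw [huniq ⟨m, hm⟩ 1 y hy (by rw [he.one, hmy])]
      exact hyk
  have hcardN : Nat.card ↥N = 2048 * 244823040 := by
    have h := Φ.ker.card_mul_index
    rw [index_ker, MonoidHom.range_eq_top.2 hsurj, card_top, Golay.card_M24, hk,
      Nat.card_congr (subgroupOfEquivOfLe hAN).toEquiv, hcardA] at h
    exact h.symm
  obtain ⟨K, hK⟩ := exists_complement X hcardN
  have hbij : Function.Bijective (fun x : K => Φ (x : ↥N)) := by
    constructor
    · intro x y h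
      have h1 : (x : ↥N)⁻¹ * y ∈ A.subgroupOf N := by
        rw [← hk, MonoidHom.mem_ker, map_mul, map_inv]
        exact inv_mul_eq_one.2 h
      have h3 : (x : ↥N)⁻¹ * y ∈ K := K.mul_mem (K.inv_mem x.2) y.2
      have h2 : (x : ↥N)⁻¹ * y ∈ (⊥ : Subgroup ↥N) := by
        rw [← hK.isCompl.inf_eq_bot]
        exact ⟨h1, h3⟩
      exact Subtype.ext (inv_mul_eq_one.1 (mem_bot.1 h2))
    · intro σ
      obtain ⟨n, rfl⟩ := hsurj σ
      obtain ⟨⟨a, x⟩, rfl⟩ := hK.existsUnique n |>.exists
      refine ⟨x, ?_⟩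
      have : (a : ↥N) ∈ Φ.ker := by rw [hk]; exact a.2
      show Φ x = Φ (a * x)
      rw [map_mul, MonoidHom.mem_ker.1 this, one_mul]
  let E : K ≃* ↥M24 := MulEquiv.ofBijective (Φ.comp K.subtype) hbij
  let k : ↥M24 →* G := (N.subtype.comp K.subtype).comp E.symm.toMonoidHom
  have hPhik : ∀ σ, Φ (((E.symm σ : K) : ↥N)) = σ := fun σ => E.apply_symm_apply σ
  refine ⟨e, k, he, hlow, fun σ => ((E.symm σ : K) : ↥N).2, fun σ hσ => ?_, fun n hn => ?_,
    fun σ c hc => ?_⟩
  · have : ((E.symm σ : K) : ↥N) ∈ Φ.ker := hk ▸ hσ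
    rw [← hPhik σ]
    exact MonoidHom.mem_ker.1 this
  · refine ⟨Φ ⟨n, hn⟩, n * (k (Φ ⟨n, hn⟩))⁻¹, ?_, (inv_mul_cancel_right _ _).symm⟩
    have : (⟨n, hn⟩ : ↥N) * (((E.symm (Φ ⟨n, hn⟩) : K) : ↥N))⁻¹ ∈ A.subgroupOf N := by
      rw [← hk, MonoidHom.mem_ker, map_mul, map_inv, hPhik, mul_inv_cancel]
    exact this
  · set n : ↥N := ((E.symm σ : K) : ↥N) with hn
    have hPn : Φ n = σ := hPhik σ
    have hy := (kap c).lt
    show (n : G) * e (kap c).y * (n : G)⁻¹ = _
    rw [← hfe]
    congr 1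
    have hkap := kap_spec hc
    have h' : kap (moved (σ : Equiv.Perm GolayPt) c) = ⟨f n (kap c).y, hflt _ _⟩ := by
      refine kap_eq (moved_mem σ.2 hc) ?_
      rcases hΦ n _ hy with h1 | h1 <;> rcases hkap with h2 | h2 <;>
        rw [hPn, h2] at h1 <;> simp only [] <;> rw [h1]
      · exact Or.inl rfl
      · exact Or.inr rfl
      · exact Or.inr rfl
      · refine Or.inl (funext fun p => ?_)
        simp [moved, add_assoc, CharTwo.add_self_eq_zero]
    rw [h']

/-- The monomial group maps onto the normalizer with the sign as kernel. -/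
theorem exists_nside (X : Four z Q π ρ s g) : ∃ f : crossStab →* G, NSide z s Q f := by
  classical
  obtain ⟨e, k, he, hlow, hkN, hkA, hdec, hconj⟩ := exists_section X
  have e0 : e 0 = 1 := by
    have := he.xor 0 0 (by norm_num) (by norm_num)
    rw [Nat.xor_self] at this
    exact left_eq_mul.1 this
  let F : M24 × golayCode → G := fun a => e (kap (a.2 : GolayPt → ZMod 2)).y * k a.1
  have hFmul : ∀ a b, F (pairMul a b) = F a * F b := by
    intro a b
    show e (kap ((a.2 : GolayPt → ZMod 2) + moved (a.1 : Equiv.Perm GolayPt) b.2)).y * k (a.1 * b.1) = _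
    rw [CoM24.model.mul _ a.2.2 _ (moved_mem a.1.2 b.2.2), coord_mul,
      he.xor _ _ (Coord.lt _) (Coord.lt _), ← hconj a.1 _ b.2.2, map_mul]
    simp only [F]
    group
  let f0 : crossStab →* G := MonoidHom.mk' (fun x => F (pairOf x)) fun x y => by
    rw [← hFmul]
    congr 1
    exact mono_injective (by rw [← mono_mul, mono_pairOf, mono_pairOf, mono_pairOf, Subgroup.coe_mul])
  have hf0 : ∀ a, f0 ⟨mono a, mono_mem a⟩ = F a := fun a => congrArg F
    (mono_injective (mono_pairOf ⟨mono a, mono_mem a⟩))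
  have hpair : ∀ a, pairOf ⟨mono a, mono_mem a⟩ = a := fun a =>
    mono_injective (mono_pairOf ⟨mono a, mono_mem a⟩)
  have hker0 : ∀ x, f0 x = 1 ↔ (x : Co0) = 1 ∨ (x : Co0) = negCo0 := by
    intro x
    obtain ⟨a, ha⟩ : ∃ a, x = ⟨mono a, mono_mem a⟩ := ⟨pairOf x, Subtype.ext (mono_pairOf x).symm⟩
    subst ha
    rw [hf0]
    constructor
    · intro h
      have hσ : a.1 = 1 := hkA _ (by
        rw [show k a.1 = (e (kap (a.2 : GolayPt → ZMod 2)).y)⁻¹ from eq_inv_of_mul_eq_one_right h]
        exact inv_mem (he.mem _))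
      have h0 : e (kap (a.2 : GolayPt → ZMod 2)).y = 1 := by
        simpa [F, hσ] using h
      have h1 : (kap (a.2 : GolayPt → ZMod 2)) = 1 :=
        Coord.ext (he.inj _ _ (Coord.lt _) (Coord.lt _) (h0.trans e0.symm))
      rcases (CoM24.model.ker _ a.2.2).1 h1 with hc | hc
      · left
        show mono a = 1
        rw [show a = ((1 : M24), (0 : golayCode)) from Prod.ext hσ (Subtype.ext hc)]
        exact diag_zero
      · right
        show mono a = negCo0
        rw [negCo0, show a = ((1 : M24), (⟨1, Leech.one_mem_code⟩ : golayCode)) from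
          Prod.ext hσ (Subtype.ext hc)]
    · rintro (h | h)
      · have : a = ((1 : M24), (0 : golayCode)) := mono_injective (h.trans diag_zero.symm)
        subst this
        show e (kap 0).y * k 1 = 1
        rw [(CoM24.model.ker _ (zero_mem _)).2 (Or.inl rfl), coord_one, e0, map_one, mul_one]
      · have : a = ((1 : M24), (⟨1, Leech.one_mem_code⟩ : golayCode)) := mono_injective h
        subst this
        show e (kap _).y * k 1 = 1
        rw [(CoM24.model.ker _ Leech.one_mem_code).2 (Or.inr rfl), coord_one, e0, map_one, mul_one]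
  have hrange0 : f0.range = normalizer (AA z s : Set G) := by
    refine le_antisymm ?_ fun n hn => ?_
    · rintro _ ⟨x, rfl⟩
      exact mul_mem (le_normalizer (he.mem _)) (hkN _)
    · obtain ⟨σ, a, ha, rfl⟩ := hdec n hn
      obtain ⟨y, hy, rfl⟩ := he.surj a ha
      obtain ⟨c, hc, hcy⟩ := CoM24.model.surj ⟨y, hy⟩
      refine ⟨⟨mono (σ, ⟨c, hc⟩), mono_mem _⟩, ?_⟩
      rw [hf0]
      show e (kap c).y * k σ = _
      rw [hcy]
  have hdiag0 : ∀ x, f0 x ∈ AA z s ↔ (pairOf x).1 = 1 := fun x =>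
    ⟨fun h => hkA _ (by
      have := mul_mem (inv_mem (he.mem (kap ((pairOf x).2 : GolayPt → ZMod 2)).y)) h
      rwa [show f0 x = F (pairOf x) from rfl, inv_mul_cancel_left] at this),
    fun h => by
      show e _ * k (pairOf x).1 ∈ _
      rw [h, map_one, mul_one]
      exact he.mem _⟩
  -- move the octad of the model to the octad of the coordinates
  obtain ⟨p0, hp0, hp0o⟩ := exists_M24_octad E8Cent.oSet_mem refOct_mem
  let m0 : crossStab := ⟨mono (⟨p0, hp0⟩, 0), mono_mem _⟩
  refine ⟨f0.comp (MulAut.conj m0).toMonoidHom, ?_, fun x => ?_, ?_, fun x => ?_, fun c hc => ?_⟩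
  · rw [MonoidHom.range_comp, MonoidHom.range_eq_top.2 (MulAut.conj m0).surjective,
      ← MonoidHom.range_eq_map, hrange0]
  · rw [MonoidHom.comp_apply, hker0]
    show ((m0 * x * m0⁻¹ : crossStab) : Co0) = 1 ∨ _ = negCo0 ↔ _
    rw [Subgroup.coe_mul, Subgroup.coe_mul, Subgroup.coe_inv]
    refine or_congr conj_eq_one_iff ?_
    show (m0 : Co0) * (x : Co0) * (m0 : Co0)⁻¹ = negCo0 ↔ _
    rw [mul_inv_eq_iff_eq_mul,
      ← Subgroup.mem_center_iff.1 (Leech.mem_center_iff.2 (Or.inr rfl)) (m0 : Co0)]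
    exact mul_right_inj _
  · have key : ∀ c : golayCode, (m0 * ⟨Leech.diag c, mono_mem _⟩ * m0⁻¹ : crossStab) =
        ⟨Leech.diag ⟨moved p0 c, moved_mem hp0 c.2⟩, mono_mem _⟩ := fun c => by
      rw [mul_inv_eq_iff_eq_mul]
      refine Subtype.ext ?_
      show mono _ * mono _ = mono _ * mono _
      rw [mono_mul, mono_mul]
      congr 1
      refine Prod.ext ?_ (Subtype.ext (funext fun i => ?_)) <;> simp [pairMul, moved, Equiv.Perm.one_def]
    show f0 (m0 * ⟨E8Cent.t0, mono_mem _⟩ * m0⁻¹) = z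
    rw [show (⟨E8Cent.t0, mono_mem _⟩ : crossStab) = ⟨Leech.diag E8Cent.xWord, mono_mem _⟩ from rfl,
      key, hf0]
    show e (kap _).y * k 1 = z
    rw [map_one, mul_one]
    have hm : moved p0 (E8Cent.xWord : GolayPt → ZMod 2) = ind refOct + fun _ => 1 := by
      rw [xWord_eq, ← hp0o, ← moved_ind]
      rfl
    have hk1 : kap (ind refOct) = ⟨1, by norm_num⟩ := by
      have := (octOf_spec (y := 1) (by norm_num) octad_one.1).2
      rwa [octad_one.2] at this
    have : kap (moved p0 (E8Cent.xWord : GolayPt → ZMod 2)) = ⟨1, by norm_num⟩ := by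
      rw [hm, ← hk1]
      exact (CoM24.model.eq_iff (add_mem (ind_octad refOct_mem) Leech.one_mem_code) (ind_octad refOct_mem)).2
        (Or.inr rfl)
    rw [this, he.one]
  · show f0 (m0 * x * m0⁻¹) ∈ _ ↔ _
    rw [hdiag0, show (pairOf (m0 * x * m0⁻¹)).1 = permPart (m0 * x * m0⁻¹) from rfl, map_mul, map_mul,
      map_inv, conj_eq_one_iff]
    rfl
  · show f0 (m0 * _ * m0⁻¹) ∈ Q
    have hm : (m0 * ⟨Leech.diag c, mono_mem _⟩ * m0⁻¹ : crossStab) =
        ⟨Leech.diag ⟨moved p0 c, moved_mem hp0 c.2⟩, mono_mem _⟩ := by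
      rw [mul_inv_eq_iff_eq_mul]
      refine Subtype.ext ?_
      show mono _ * mono _ = mono _ * mono _
      rw [mono_mul, mono_mul]
      congr 1
      refine Prod.ext ?_ (Subtype.ext (funext fun i => ?_)) <;> simp [pairMul, moved, Equiv.Perm.one_def]
    rw [hm, hf0]
    show e (kap (moved p0 c)).y * k 1 ∈ Q
    rw [map_one, mul_one]
    refine hlow _ (kap_low (moved_mem hp0 c.2) fun p hp => ?_)
    rw [← hp0o, Finset.mem_smul_finset] at hp
    obtain ⟨q, hq, rfl⟩ := hp
    show (c : GolayPt → ZMod 2) (p0.symm (p0 q)) = 0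
    rw [Equiv.symm_apply_apply]
    exact hc q (mem_maskSet.1 hq)

end Cfsg.Agent.Co1Amalgam
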