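import Cfsg.Agent.Lib.Co1Recog.Amalgam.NSide
import Cfsg.Agent.Lib.E8Cent.Co1

/-!
The image of the extraspecial subgroup of the model is the extraspecial subgroup.
-/

set_option autoImplicit false
set_option maxRecDepth 20000
set_option synthInstance.maxSize 4000
set_option synthInstance.maxHeartbeats 400000

noncomputable section

namespace Cfsg.Agent.Co1Amalgam

open Cfsg Cfsg.Agent.Leech Cfsg.Agent.CoM24 Cfsg.Agent.CoT
open Subgroup

local notation "F" => ZMod 2

/-- A class of the radical fixed by the stabiliser of a vector of the dual space is zero. -/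
theorem fixed_rad : ∀ k : Fin 4, ∀ o : Fin 64,
    (∀ t : Fin 12, (gp t).1 ≠ k → act t o = o) → (o : ℕ) = 0 := by
  decide +kernel

theorem gv_perp : ∀ t : Fin 12, ∀ k i : Fin 4, (gp t).1 ≠ k →
    bil (Fv k + gv t (Fv k)) (E i) = 0 := by
  decide +kernel

theorem ker_le_crossStab (x : E8Cent.rho.ker) : ((x : E8Cent.Cc) : Co0) ∈ crossStab := by
  obtain ⟨a, ha, -⟩ := E8Cent.ker_mono x.2
  rw [← ha]
  exact mono_mem a

/-- The extraspecial subgroup of the model inside the monomial group. -/
def incK : E8Cent.rho.ker →* crossStab :=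
  (E8Cent.Cc.subtype.comp E8Cent.rho.ker.subtype).codRestrict crossStab ker_le_crossStab

variable {G : Type*} [Group G] {z : G} {Q : Subgroup G} {π : G → V}
  {ρ : G → V → V} {s g : Fin 4 → G} {f : crossStab →* G}

namespace NSide

variable (hf : NSide z s Q f)
include hf

theorem incK_inj : Function.Injective (f.comp incK) := by
  refine (injective_iff_map_eq_one _).2 fun x hx => ?_
  rcases (hf.ker (incK x)).1 hx with h | h
  · exact Subtype.ext (Subtype.ext h)
  · exact absurd (show E8Cent.negC ∈ E8Cent.rho.ker by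
      rw [show E8Cent.negC = (x : E8Cent.Cc) from Subtype.ext h.symm]; exact x.2) E8Cent.negC_not_ker

theorem t0k_z : f.comp incK E8Cent.t0k = z := by
  rw [← hf.t0]; rfl

theorem comm_z (x : E8Cent.rho.ker) : f.comp incK x * z = z * f.comp incK x := by
  rw [← hf.t0k_z, ← map_mul, ← map_mul, E8Cent.t0k_comm]

theorem mem_N (x : crossStab) : f x ∈ normalizer (AA z s : Set G) := hf.range ▸ ⟨x, rfl⟩

theorem diag_Q {x : E8Cent.rho.ker} (hx : f.comp incK x ∈ AA z s) : f.comp incK x ∈ Q := by
  obtain ⟨a, ha, hfix⟩ := E8Cent.ker_mono x.2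
  have e : pairOf (incK x) = a := mono_injective (by rw [mono_pairOf, ha]; rfl)
  have h1 : a.1 = 1 := e ▸ (hf.diag _).1 hx
  have hlow := hf.low a.2 fun p hp => (hfix p hp).2
  have : incK x = ⟨Leech.diag a.2, mono_mem _⟩ := Subtype.ext (by
    show ((x : E8Cent.Cc) : Co0) = mono (1, a.2)
    rw [← ha, ← h1])
  rw [MonoidHom.comp_apply, this]
  exact hlow

/-- An element of the monomial group commuting with `z` lies in the centraliser of the model. -/
theorem mem_Cc {m : crossStab} (h : f m * z = z * f m) : (m : Co0) ∈ E8Cent.Cc := by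
  rw [E8Cent.mem_Cc]
  have h1 : f (m * ⟨E8Cent.t0, mono_mem _⟩ * m⁻¹ * (⟨E8Cent.t0, mono_mem _⟩ : crossStab)⁻¹) = 1 := by
    rw [map_mul, map_mul, map_mul, map_inv, map_inv, hf.t0, h]
    group
  rcases (hf.ker _).1 h1 with e | e
  · rw [Subgroup.coe_mul, Subgroup.coe_mul, Subgroup.coe_mul, Subgroup.coe_inv, Subgroup.coe_inv,
      mul_inv_eq_one, mul_inv_eq_iff_eq_mul] at e
    exact e
  · rw [Subgroup.coe_mul, Subgroup.coe_mul, Subgroup.coe_mul, Subgroup.coe_inv, Subgroup.coe_inv,
      mul_inv_eq_iff_eq_mul, mul_inv_eq_iff_eq_mul] at e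
    refine (E8Cent.anticomm_false (g := (m : Co0)) ?_).elim
    have hneg : ∀ y : Co0, negCo0 * y = y * negCo0 := fun y =>
      (Subgroup.mem_center_iff.1 (Leech.mem_center_iff.2 (Or.inr rfl)) y).symm
    rw [e, hneg E8Cent.t0, mul_assoc E8Cent.t0, hneg, ← mul_assoc]

theorem conj_ker {c : G} (hc : c * z = z * c) (hn : c ∈ normalizer (AA z s : Set G))
    (x : E8Cent.rho.ker) : ∃ y : E8Cent.rho.ker, f.comp incK y = c * f.comp incK x * c⁻¹ := by
  rw [← hf.range] at hn
  obtain ⟨m, rfl⟩ := hn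
  have hm := hf.mem_Cc hc
  let mc : E8Cent.Cc := ⟨(m : Co0), hm⟩
  refine ⟨⟨mc * (x : E8Cent.Cc) * mc⁻¹, E8Cent.rho.normal_ker.conj_mem _ x.2 mc⟩, ?_⟩
  rw [MonoidHom.comp_apply, MonoidHom.comp_apply, ← map_inv, ← map_mul, ← map_mul]
  congr 1

end NSide

variable [Finite G]

theorem rad_unique (X : Four z Q π ρ s g) {a : G} {o o' : ℕ} (ho : o < 64) (ho' : o' < 64)
    (h : Rad z ρ s a o) (h' : Rad z ρ s a o') : o = o' := by
  have hlt : o ^^^ o' < 64 := Nat.xor_lt_two_pow (n := 6) ho ho'
  have := om_inj ⟨o ^^^ o', hlt⟩ fun k => by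
    show omV (o ^^^ o') (Fv k) = 0
    rw [omV_xor, show omV o' (Fv k) = omV o (Fv k) from
      add_left_cancel ((h'.2 (Fv k)).symm.trans (h.2 (Fv k))), CoT.add_self]
  exact Nat.xor_eq_zero_iff.1 (congrArg Fin.val this)

/-- The extraspecial subgroup is the image of the one of the model. -/
theorem Q_image (X : Four z Q π ρ s g) (hf : NSide z s Q f) :
    (f.comp incK).range = Q := by
  classical
  obtain ⟨r, hr⟩ := X.base.exists_rsys
  obtain ⟨a, ha⟩ := X.exists_tsys hr
  set h := f.comp incK with hh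
  have hinj := hf.incK_inj
  have hcardR : Nat.card h.range = 512 := by
    rw [← E8Cent.card_ker]
    exact (Nat.card_congr (MonoidHom.ofInjective hinj).toEquiv).symm
  have S := X.base.su
  -- the elements of the abelian subgroup in the image are all those of `Q`
  have hW : ∀ d ∈ Q, d ∈ AA z s → d ∈ h.range := by
    let w : Fin 32 → G := fun j => h (E8Cent.kElt (0, j))
    have hdiag : ∀ j, w j ∈ AA z s := fun j => by
      refine (hf.diag _).2 ?_
      rw [show pairOf (incK (E8Cent.kElt (0, j))) = E8Cent.kPair (0, j) from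
        mono_injective (by rw [mono_pairOf]; exact E8Cent.kElt_val _)]
      refine Subtype.ext (Equiv.ext fun p => ?_)
      simp [E8Cent.kPair, E8Cent.octP_zero]
    let T := {d : G // d ∈ Q ∧ d ∈ AA z s}
    let ι : Fin 32 → T := fun j => ⟨w j, hf.diag_Q (hdiag j), hdiag j⟩
    have hι : Function.Injective ι := fun i j e =>
      (Prod.mk.inj (E8Cent.kElt_inj (hinj (congrArg Subtype.val e)))).2
    have hT : Nat.card T ≤ 32 := by
      rw [← Nat.card_fin 32]
      refine Nat.card_le_card_of_surjective (fun w : Fin 32 =>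
        (⟨ev [z, s 0, s 1, s 2, s 3] w, (X.base.low_spec w).1, ev_mem (by
          simp only [List.forall_mem_cons, List.not_mem_nil, IsEmpty.forall_iff, implies_true, and_true]
          exact ⟨X.base.z_mem, X.base.s_mem 0, X.base.s_mem 1, X.base.s_mem 2, X.base.s_mem 3⟩) _⟩ : T))
        fun d => ?_
      obtain ⟨v, hv⟩ := X.base.low_surj d.2.1 ((X.base.mem_Q d.2.1).1 d.2.2)
      exact ⟨v, Subtype.ext hv.symm⟩
    have hsurj : Function.Surjective ι := by
      have hb := hι.bijective_of_nat_card_le (by rw [Nat.card_fin]; exact hT)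
      exact hb.2
    intro d hd hdA
    obtain ⟨j, hj⟩ := hsurj ⟨d, hd, hdA⟩
    exact ⟨E8Cent.kElt (0, j), congrArg Subtype.val hj⟩
  -- the functional of an element of the image on the singular subspace
  have hb : ∀ x : E8Cent.rho.ker, ∀ i, ∃ c : F, h x * s i = s i * zb z c * h x := by
    intro x i
    obtain ⟨y, hy⟩ := hW (s i) (X.base.fr i).sQ (X.base.s_mem i)
    rcases E8Cent.ker_comm x y with e | e
    · exact ⟨0, by rw [zb_zero, mul_one, ← hy, ← map_mul, ← map_mul, e]⟩
    · refine ⟨1, ?_⟩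
      rw [zb_one, ← hy, ← map_mul, e, ← hf.t0k_z, ← map_mul, ← map_mul, ← mul_assoc,
        E8Cent.t0k_comm]
  choose b hb using hb
  have hbu : ∀ x i c, h x * s i = s i * zb z c * h x → b x i = c := by
    intro x i c e
    have e' := mul_left_cancel (mul_right_cancel ((hb x i).symm.trans e))
    rcases F_cases (b x i) with p | p <;> rcases F_cases c with q | q <;> rw [p, q] at e' ⊢ <;>
      simp only [zb_zero, zb_one] at e'
    · exact absurd e'.symm S.loc.ne_one
    · exact absurd e' S.loc.ne_one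
  have hbmul : ∀ x y i, b (x * y) i = b x i + b y i := fun x y i => hbu _ _ _ (by
    rw [map_mul, mul_assoc, hb y i, ← mul_assoc, ← mul_assoc, hb x i, mul_assoc (s i * _),
      zb_comm (hf.comm_z x), ← mul_assoc, mul_assoc (s i), ← zb_add S.loc.sq, mul_assoc])
  have hzero : ∀ x, (∀ i, b x i = 0) → h x ∈ Q := by
    intro x hx
    refine hf.diag_Q (mem_AA.2 ⟨hf.comm_z x, fun i => ?_⟩)
    rw [hb x i, hx i, zb_zero, mul_one]
  -- elements with a prescribed functional
  have hone : ∀ k : Fin 4, ∃ x, ∀ i, b x i = if i = k then 1 else 0 := by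
    let β : Fin 16 → (Fin 4 → F) := fun l => b (E8Cent.kElt (l, 0))
    have hβ : Function.Injective β := by
      intro l l' e
      have h0 : ∀ i, b ((E8Cent.kElt (l, 0))⁻¹ * E8Cent.kElt (l', 0)) i = 0 := fun i => by
        have h1 := hbmul (E8Cent.kElt (l, 0)) ((E8Cent.kElt (l, 0))⁻¹ * E8Cent.kElt (l', 0)) i
        rw [mul_inv_cancel_left] at h1
        have h2 := congrFun e i
        simp only [β] at h2
        rw [← h2] at h1
        exact left_eq_add.1 h1
      have hA : h ((E8Cent.kElt (l, 0))⁻¹ * E8Cent.kElt (l', 0)) ∈ AA z s :=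
        mem_AA.2 ⟨hf.comm_z _, fun i => by rw [hb, h0, zb_zero, mul_one]⟩
      have h1 : permPart (incK ((E8Cent.kElt (l, 0))⁻¹ * E8Cent.kElt (l', 0))) = 1 := (hf.diag _).1 hA
      rw [map_mul, map_inv, map_mul, map_inv, inv_mul_eq_one] at h1
      have hp : ∀ q, permPart (incK (E8Cent.kElt q)) = (E8Cent.kPair q).1 := fun q => by
        rw [← permPart_mono (E8Cent.kPair q)]
        congr 1
        exact Subtype.ext (E8Cent.kElt_val q)
      rw [hp, hp] at h1
      exact E8Cent.octP_inj (congrArg Subtype.val h1)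
    have hsurj : Function.Surjective β :=
      (hβ.bijective_of_nat_card_le (by simp)).2
    intro k
    obtain ⟨l, hl⟩ := hsurj fun i => if i = k then 1 else 0
    exact ⟨_, fun i => congrFun hl i⟩
  choose x hx using hone
  have hxQ : ∀ k, h (x k) ∈ Q := by
    intro k
    obtain ⟨haQ, hak⟩ := ha k
    have hak' : ∀ i, a k * s i = s i * zb z (if i = k then 1 else 0) * a k := fun i => by
      have hr' := S.rule haQ (X.base.fr i).sQ
      rw [hak, X.base.se, FE_bil] at hr'
      rw [hr', mul_assoc, mul_assoc, zb_comm (S.Qz haQ)]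
      by_cases e : i = k
      · rw [if_pos e, if_pos e.symm]
      · rw [if_neg e, if_neg (Ne.symm e)]
    set u := (a k)⁻¹ * h (x k) with hu
    have huA : u ∈ AA z s := by
      refine mem_AA.2 ⟨S.comm_mul (S.comm_inv (S.Qz haQ)) (hf.comm_z _), fun i => ?_⟩
      have h1 : (a k)⁻¹ * (s i * zb z (if i = k then 1 else 0)) = s i * (a k)⁻¹ := by
        rw [inv_mul_eq_iff_eq_mul, ← mul_assoc, hak' i, mul_assoc _ (a k), mul_inv_cancel, mul_one]
      calc u * s i = (a k)⁻¹ * (h (x k) * s i) := mul_assoc _ _ _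
        _ = (a k)⁻¹ * (s i * zb z (if i = k then 1 else 0)) * h (x k) := by
          rw [hb, hx]; simp only [mul_assoc]
        _ = s i * u := by rw [h1, hu, mul_assoc]
    obtain ⟨o, ho, hrad⟩ := X.base.exists_rad huA
    have hfix : ∀ t : Fin 12, (gp t).1 ≠ k → act t o = o := by
      intro t ht
      obtain ⟨c, hc, hρ, hn⟩ := X.base.exists_gen t
      obtain ⟨y, hy⟩ := hf.conj_ker hc hn (x k)
      set q := (a k)⁻¹ * (c * a k * c⁻¹) with hq
      have hqQ : q ∈ Q := mul_mem (inv_mem haQ) (S.conj_mem hc haQ)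
      have hqA : q ∈ AA z s := (X.base.mem_Q hqQ).2 fun i => by
        rw [hq, S.pi_mul _ (inv_mem haQ) _ (S.conj_mem hc haQ), S.pi_inv haQ, S.conj c hc _ haQ, hρ, hak]
        exact gv_perp t k i ht
      have hrc := X.base.rad_conj ho hc hρ hn hrad
      have hprod : u⁻¹ * q * (c * u * c⁻¹) = h ((x k)⁻¹ * y) := by
        rw [map_mul, map_inv, show h y = c * h (x k) * c⁻¹ from hy, hu, hq]
        group
      have hR := X.base.rad_mul (X.base.rad_mul (X.base.rad_inv hrad) (X.base.rad_Q hqQ hqA)) hrc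
      rw [hprod] at hR
      have h0 := X.base.rad_Q (hf.diag_Q hR.1) hR.1
      have hlt : act t o < 64 := (act_ok t ⟨o, ho⟩).1
      have e := rad_unique X (Nat.xor_lt_two_pow (n := 6) (Nat.xor_lt_two_pow (n := 6) ho (by norm_num)) hlt)
        (by norm_num) hR h0
      rw [Nat.xor_zero] at e
      exact (Nat.xor_eq_zero_iff.1 e).symm
    have h0 : o = 0 := fixed_rad k ⟨o, ho⟩ hfix
    subst h0
    have huQ : u ∈ Q := (S.ker u (X.base.Az huA)).1 fun v => by rw [hrad.2, omV_zero, add_zero]
    have := mul_mem haQ huQ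
    rwa [hu, mul_inv_cancel_left] at this
  have hle : h.range ≤ Q := by
    rintro _ ⟨w, rfl⟩
    have hpow : ∀ (k : Fin 4) (c : F), ∃ y, h y ∈ Q ∧ ∀ i, b y i = if i = k then c else 0 := by
      intro k c
      rcases F_cases c with rfl | rfl
      · refine ⟨1, by rw [map_one]; exact one_mem _, fun i => ?_⟩
        rw [ite_self]
        have := hbmul 1 1 i
        rw [one_mul] at this
        exact left_eq_add.1 this
      · exact ⟨x k, hxQ k, hx k⟩
    obtain ⟨y0, q0, b0⟩ := hpow 0 (b w 0)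
    obtain ⟨y1, q1, b1⟩ := hpow 1 (b w 1)
    obtain ⟨y2, q2, b2⟩ := hpow 2 (b w 2)
    obtain ⟨y3, q3, b3⟩ := hpow 3 (b w 3)
    set p := y0 * y1 * y2 * y3 with hp
    have hpQ : h p ∈ Q := by
      rw [hp, map_mul, map_mul, map_mul]; exact mul_mem (mul_mem (mul_mem q0 q1) q2) q3
    have hd : h (p⁻¹ * w) ∈ Q := hzero _ fun i => by
      have h1 := hbmul p (p⁻¹ * w) i
      rw [mul_inv_cancel_left] at h1
      have h2 : b p i = b w i := by
        rw [hp, hbmul, hbmul, hbmul, b0, b1, b2, b3]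
        fin_cases i <;> simp
      rw [h2] at h1
      exact left_eq_add.1 h1
    have := mul_mem hpQ hd
    rwa [← map_mul, mul_inv_cancel_left] at this
  exact eq_of_le_of_card_ge hle (by rw [S.card, hcardR])

end Cfsg.Agent.Co1Amalgam
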