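import Cfsg.Agent.Lib.Co1Recog.Amalgam.ModelEdge

/-!
In the graph of the sextet involution every triangle lies in a translate of the block.
-/

set_option autoImplicit false
set_option maxRecDepth 20000

noncomputable section

namespace Cfsg.Agent.Co1Amalgam

open Cfsg Cfsg.Agent.Golay Cfsg.Agent.Leech Cfsg.Agent.PermCert Finset
open scoped Pointwise

attribute [local irreducible] stabGens pairWords sextetReps tetIds

theorem xiA_self : ∀ p : GolayPt, xiA p p = 4 ∨ xiA p p = -4 := by decide +kernel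

theorem xiA_cases : ∀ p q : GolayPt, xiA p q = 0 ∨ xiA p q = 4 ∨ xiA p q = -4 := by decide +kernel

/-- If the product is a neighbour, no image point is alone in its tetrad. -/
theorem no_single {a b c : M24 × golayCode} (h : xi * mono a * xi = mono b * xi * mono c)
    (p : GolayPt) : ∃ u, u ≠ p ∧ tet u = tet p ∧
      tet ((a.1 : Equiv.Perm GolayPt) u) = tet ((a.1 : Equiv.Perm GolayPt) p) := by
  by_contra hne
  push Not at hne
  set k := (a.1 : Equiv.Perm GolayPt) p with hk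
  set j := (c.1 : Equiv.Perm GolayPt) p with hj
  have e := congrFun (congrArg (fun g : Co0 => ((g • axis p : leechLattice) : GolayPt → ℤ)) h) k
  simp only [mul_smul, mono_axis] at e
  rw [show mono b • xi • (sgn (c.2 : GolayPt → ZMod 2) j • axis j) =
      sgn (c.2 : GolayPt → ZMod 2) j • (mono b • xi • axis j) from by
    rw [← hom0_apply xi (_ • _), map_zsmul, hom0_apply, ← hom0_apply (mono b) (_ • _), map_zsmul,
      hom0_apply]] at e
  rw [AddSubgroup.coe_zsmul, Pi.smul_apply, smul_eq_mul, xi_smul, mono_smul, mono_smul] at e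
  simp only [monoFun, xi_axis] at e
  rw [sum_eq_single k] at e
  · simp only [hk, Equiv.symm_apply_apply] at e
    rcases xiA_self p with h1 | h1 <;> rcases xiA_self ((a.1 : Equiv.Perm GolayPt) p) with h2 | h2 <;>
      rcases sgn_cases (a.2 : GolayPt → ZMod 2) ((a.1 : Equiv.Perm GolayPt) p) with h3 | h3 <;>
      rcases sgn_cases (c.2 : GolayPt → ZMod 2) j with h4 | h4 <;>
      rcases sgn_cases (b.2 : GolayPt → ZMod 2) ((a.1 : Equiv.Perm GolayPt) p) with h5 | h5 <;>
      rcases xiA_cases ((b.1 : Equiv.Perm GolayPt).symm ((a.1 : Equiv.Perm GolayPt) p)) j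
        with h6 | h6 | h6 <;>
      rw [h1, h2, h3, h4, h5, h6] at e <;> norm_num at e
  · intro r _ hr
    by_cases h0 : tet k = tet r
    · have h1 : xiA ((a.1 : Equiv.Perm GolayPt).symm r) p = 0 := by
        refine (xiA_ne _ _).2 fun ht => hne ((a.1 : Equiv.Perm GolayPt).symm r) ?_ ht ?_
        · intro hp
          exact hr (by rw [hk, ← hp, Equiv.apply_symm_apply])
        · rw [Equiv.apply_symm_apply, ← h0]
      rw [h1, mul_zero, mul_zero]
    · rw [(xiA_ne _ _).2 h0, zero_mul]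
  · exact fun hn => absurd (mem_univ _) hn

theorem four_values : ∀ f : Fin 4 → Fin 6, (∀ i, ∃ j, j ≠ i ∧ f j = f i) →
    ∃ s t : Fin 6, s ≠ t ∧ ∀ i, f i = s ∨ f i = t := by decide +kernel

/-- The first tetrad. -/
def tet0Pts : Fin 4 → GolayPt := ![pt 0, pt 2, pt 4, pt 5]

theorem tet0_pts : (∀ i, tet (tet0Pts i) = 0) ∧ ∀ p, tet p = 0 → ∃ i, tet0Pts i = p := by
  decide +kernel

/-- Two tetrads as a mask. -/
def twoMask (s t : Fin 6) : ℕ :=
  mkMask (fun i => Nat.beq (tetIds.getD i 0) s || Nat.beq (tetIds.getD i 0) t) 24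

theorem twoMask_ok : ∀ s t : Fin 6, s ≠ t → inCode (twoMask s t) = true ∧
    popCount (twoMask s t) 24 = 8 ∧
    ∀ p, (twoMask s t).testBit (idx p) = true ↔ (tetF p = s ∨ tetF p = t) := by
  decide +kernel

/-- An octad through the first tetrad is a union of tetrads. -/
theorem octad_tet0 : octadList.all (fun m =>
    !(allBelow (fun i => !(Nat.beq (tetIds.getD i 0) 0) || m.testBit i) 24) ||
      allBelow (fun i => allBelow (fun j =>
        !(Nat.beq (tetIds.getD i 0) (tetIds.getD j 0)) || (m.testBit i == m.testBit j)) 24) 24) = true := by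
  decide +kernel

theorem mem_twoSet {s t : Fin 6} (hst : s ≠ t) (p : GolayPt) :
    p ∈ maskSet (twoMask s t) ↔ tetF p = s ∨ tetF p = t :=
  mem_maskSet.trans ((twoMask_ok s t hst).2.2 p)

theorem twoSet_octad {s t : Fin 6} (hst : s ≠ t) : maskSet (twoMask s t) ∈ octads :=
  mem_octads.2 ⟨twoMask s t,
    mem_octadList.2 ⟨inCode_iff.1 (twoMask_ok s t hst).1, (twoMask_ok s t hst).2.1⟩, rfl⟩

/-- An element of M24 sending the first tetrad into the octad pulls it back to a union of tetrads. -/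
theorem tets_of_tet0 (π : M24) (h : ∀ p, tet p = 0 → E8Cent.InO ((π : Equiv.Perm GolayPt) p))
    (p q : GolayPt) (e : tet p = tet q) :
    E8Cent.InO ((π : Equiv.Perm GolayPt) p) ↔ E8Cent.InO ((π : Equiv.Perm GolayPt) q) := by
  obtain ⟨m, hm, hme⟩ := mem_octads.1 (smul_mem_octads (inv_mem π.2) E8Cent.oSet_mem)
  have hbit : ∀ r : GolayPt, m.testBit (idx r) = true ↔ E8Cent.InO ((π : Equiv.Perm GolayPt) r) := by
    intro r
    rw [← mem_maskSet (m := m), hme, Finset.mem_smul_finset]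
    constructor
    · rintro ⟨u, hu, rfl⟩
      show E8Cent.InO ((π : Equiv.Perm GolayPt) ((π : Equiv.Perm GolayPt).symm u))
      rw [Equiv.apply_symm_apply]
      exact mem_maskSet.1 hu
    · intro hr
      exact ⟨_, mem_maskSet.2 hr, (π : Equiv.Perm GolayPt).symm_apply_apply r⟩
  have h1 := List.all_eq_true.1 octad_tet0 m hm
  rw [Bool.or_eq_true, Bool.not_eq_true'] at h1
  have h2 : allBelow (fun i => !(Nat.beq (tetIds.getD i 0) 0) || m.testBit i) 24 = true := by
    refine allBelow_intro _ _ fun i hi => ?_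
    by_cases h0 : tetIds.getD i 0 = 0
    · rw [Bool.or_eq_true]
      refine Or.inr ?_
      obtain ⟨r, rfl⟩ : ∃ r, idx r = i := ⟨pt ⟨i, hi⟩, idx_pt ⟨i, hi⟩⟩
      exact (hbit r).2 (h r h0)
    · simp only [Bool.or_eq_true, Bool.not_eq_true', ← Bool.not_eq_true, Nat.beq_eq]
      exact Or.inl h0
  rw [h2] at h1
  have h3 := allBelow_spec _ _ (allBelow_spec _ _ (h1.resolve_left (by simp)) _ (idx_lt p)) _ (idx_lt q)
  have h4 : tetIds.getD (idx p) 0 = tetIds.getD (idx q) 0 := e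
  simp only [h4, Nat.beq_refl, Bool.not_true, Bool.false_or, beq_iff_eq] at h3
  rw [← hbit, ← hbit, h3]

/-- A neighbour of both ends of the edge is moved into the block by the stabiliser of the edge. -/
theorem tri_normal {a b c : M24 × golayCode} (h : xi * mono a * xi = mono b * xi * mono c) :
    ∃ k ∈ edgeStab sigma1, ∃ k' ∈ edgeStab sigma1,
      k⁻¹ * E8Cent.piH (mono a) * k' ∈ E8Cent.C1 := by
  obtain ⟨s, t, hst, hf⟩ := four_values (fun i => tetF ((a.1 : Equiv.Perm GolayPt) (tet0Pts i))) fun i => by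
    obtain ⟨u, hu, hut, hau⟩ := no_single h (tet0Pts i)
    obtain ⟨j, rfl⟩ := tet0_pts.2 u (hut.trans (tet0_pts.1 i))
    exact ⟨j, fun e => hu (by rw [e]), (tetF_eq _ _).2 hau⟩
  obtain ⟨p0, hp0, hp0o⟩ := Golay.exists_M24_octad E8Cent.oSet_mem (twoSet_octad hst)
  have hp : ∀ r, E8Cent.InO (p0.symm r) ↔ (tetF r = s ∨ tetF r = t) := by
    intro r
    rw [← mem_twoSet hst, ← hp0o, Finset.mem_smul_finset]
    constructor
    · intro hr
      exact ⟨_, mem_maskSet.2 hr, p0.apply_symm_apply r⟩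
    · rintro ⟨u, hu, rfl⟩
      show E8Cent.InO (p0.symm (p0 u))
      rw [Equiv.symm_apply_apply]
      exact mem_maskSet.1 hu
  obtain ⟨W, hW, hWO⟩ := exists_word p0.symm fun p q e => by
    rw [hp, hp, (tetF_eq p q).2 e]
  have hWK : E8Cent.piH (mono (W, 0)) ∈ edgeStab sigma1 :=
    (Subgroup.closure_le _).2 (fun u hu => hu.1) hW
  obtain ⟨a', ha'⟩ := fixesStd_iff.1 (mem_crossStab.1
    (mul_mem (inv_mem (mono_mem (W, (0 : golayCode)))) (mono_mem a)))
  have haW : mono (W, (0 : golayCode)) * mono a' = mono a := by rw [ha', mul_inv_cancel_left]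
  rw [mono_mul] at haW
  have hperm : (W : Equiv.Perm GolayPt) * (a'.1 : Equiv.Perm GolayPt) = a.1 := by
    have := congrArg (fun v : M24 × golayCode => (v.1 : Equiv.Perm GolayPt)) (mono_injective haW)
    simpa [pairMul] using this
  obtain ⟨W2, hW2, hW2O⟩ := exists_word (a'.1 : Equiv.Perm GolayPt) (tets_of_tet0 a'.1 fun r hr => by
    rw [← hWO, show (W : Equiv.Perm GolayPt) ((a'.1 : Equiv.Perm GolayPt) r) =
      (a.1 : Equiv.Perm GolayPt) r from Equiv.congr_fun hperm r, hp]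
    obtain ⟨i, rfl⟩ := tet0_pts.2 r hr
    exact hf i)
  refine ⟨_, hWK, E8Cent.piH (mono (W2, 0)), (Subgroup.closure_le _).2 (fun u hu => hu.1) hW2, ?_⟩
  rw [← map_inv, ← map_mul, ← ha', ← map_mul, mono_mul]
  exact E8Cent.preimage_C1.2 (E8Cent.mono_mem_Cc hW2O)

/-- **Triangles lie in blocks.** -/
theorem tri_block : ∀ x y w : Spor.Co1 ⧸ N1, edgeAdj N1 sigma1 x y → edgeAdj N1 sigma1 y w →
    edgeAdj N1 sigma1 x w → ∃ (p a b c : Spor.Co1), a ∈ E8Cent.C1 ∧ b ∈ E8Cent.C1 ∧ c ∈ E8Cent.C1 ∧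
      ((p * a : Spor.Co1) : Spor.Co1 ⧸ N1) = x ∧ ((p * b : Spor.Co1) : Spor.Co1 ⧸ N1) = y ∧
      ((p * c : Spor.Co1) : Spor.Co1 ⧸ N1) = w := by
  rintro _ _ _ ⟨p, rfl, rfl⟩ ⟨q, hq, rfl⟩ ⟨r, hr, hw⟩
  have hinv : sigma1⁻¹ = sigma1 := inv_eq_of_mul_eq_one_right sigma1_sq
  -- the two ways of reaching the third point
  obtain ⟨n, hn, rfl⟩ : ∃ n ∈ N1, r = p * n :=
    ⟨p⁻¹ * r, QuotientGroup.eq.1 hr.symm, (mul_inv_cancel_left _ _).symm⟩
  obtain ⟨n2, hn2, rfl⟩ : ∃ n ∈ N1, q = p * sigma1 * n :=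
    ⟨(p * sigma1)⁻¹ * q, QuotientGroup.eq.1 hq.symm, (mul_inv_cancel_left _ _).symm⟩
  have h3 := QuotientGroup.eq.1 hw.symm
  obtain ⟨m, hm, rfl⟩ := hn
  obtain ⟨m2, hm2, rfl⟩ := hn2
  obtain ⟨a, ha⟩ := fixesStd_iff.1 (mem_crossStab.1 hm)
  obtain ⟨b, hb⟩ := fixesStd_iff.1 (mem_crossStab.1 hm2)
  subst ha
  subst hb
  have h4 : (mono b * xi)⁻¹ * (xi * mono a * xi) ∈ crossStab := by
    refine piH_mem_N1.1 ?_
    convert h3 using 1
    simp only [sigma1, map_mul, map_inv]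
    rw [show E8Cent.piH xi = sigma1 from rfl]
    simp only [mul_inv_rev, hinv, mul_assoc, inv_mul_cancel_left]
  obtain ⟨c, hc⟩ := fixesStd_iff.1 (mem_crossStab.1 h4)
  obtain ⟨k, hk, k', hk', hkC⟩ := tri_normal (a := a) (b := b) (c := c)
    (by rw [hc, mul_inv_cancel_left])
  refine ⟨p * k, 1, sigma1, k⁻¹ * E8Cent.piH (mono a) * k' * sigma1, one_mem _, sigma1_mem,
    mul_mem hkC sigma1_mem, ?_, ?_, ?_⟩
  · rw [mul_one]
    exact QuotientGroup.eq.2 (by rw [mul_inv_rev, mul_assoc, inv_mul_cancel, mul_one]; exact inv_mem hk.1)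
  · refine QuotientGroup.eq.2 ?_
    convert inv_mem (mem_edgeStab hk) using 1
    group
  · rw [← hw]
    refine QuotientGroup.eq.2 ?_
    convert inv_mem (mem_edgeStab hk') using 1
    group

end Cfsg.Agent.Co1Amalgam
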